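import Mathlib
import Cfsg.Agent.H952.RcRows
import Cfsg.Agent.H959.Rad3.Iface

/-!
# Automorphisms of order three of symplectic and orthogonal groups (helper107, task 1195)

Rows for S3854, S3832, S4336: an automorphism of order three of `PSp_2m(q)`, `PΩ_n(q)`, `r ≠ 3` the
characteristic, normalises a nontrivial `r`-subgroup.
-/

set_option autoImplicit false
set_option linter.unusedSectionVars false

namespace Cfsg.Agent.H107.FixThree

open Subgroup Cfsg Cfsg.Agent.H459.Rad Cfsg.Agent.H459.Iface QuadraticMap Cfsg.Agent.H952.Rc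
open Cfsg.Agent.BpCl (Semi SemiIso Iso)

universe u v

/-! ### symplectic groups -/

section Sp

variable {F : Type u} {V : Type v} [Field F] [AddCommGroup V] [Module F V] {Γ : Subgroup (V ≃ₗ[F] V)}
  {B : LinearMap.BilinForm F V}

/-- **Symplectic groups, order three**, the semilinear isometry normalised. -/
theorem sp_norm3 [Finite F] [FiniteDimensional F V] (hd : 3 ≤ Module.finrank F V) {r : ℕ} [hr : Fact r.Prime]
    [CharP F r] (hA : B.IsAlt) (hnd : ∀ u, (∀ v, B u v = 0) → u = 0)
    (hΓ : ∀ h : V ≃ₗ[F] V, h ∈ Γ ↔ ∀ u v, B (h u) (h v) = B u v) {x : MulAut (↥Γ ⧸ center ↥Γ)}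
    {g : Equiv.Perm V} {φ : F ≃+* F} (hg : SemiIso (fun u v => B u v) φ 1 g) (hgp : g ^ 3 = 1)
    (hφ : ∀ a, φ^[3] a = a) (hx : Comp x g) : FixR r x := by
  have hVf : Finite V := Module.finite_of_finite F
  have hVn : Nontrivial V := Module.nontrivial_of_finrank_pos (R := F) (by omega)
  have hform : ∀ u v, B (g u) (g v) = φ (B u v) := fun u v => by
    have := hg.form u v
    rwa [one_mul] at this
  -- a totally isotropic invariant subspace
  have hts : ∀ U : Submodule F V, U ≠ ⊥ → (∀ u ∈ U, g u ∈ U) → (∀ u ∈ U, ∀ v ∈ U, B u v = 0) → FixR r x := by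
    intro U hU0 hU hUU
    obtain ⟨u, hu, hu0⟩ := Submodule.exists_mem_ne_zero_of_ne_bot hU0
    have hU' := inv_iff hU
    refine hx.fixR_unip hg.add (U := U) (P := B.orthogonal U) (fun v hv w hw => hUU w hw v hv) hU'
      (orth_iff hform hU') ⟨_, tv_mem hA hΓ u⟩ ?_ (tv_not_mem_center hA hnd hΓ hu0)
    refine ⟨fun v hv => ?_, fun v hv => ?_, fun v => ?_⟩
    · change tv B u (hA u) v = v
      rw [tv_apply, hUU v hv u hu, zero_smul, add_zero]
    · change tv B u (hA u) v - v ∈ U
      rw [tv_apply, add_sub_cancel_left]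
      exact U.smul_mem _ hu
    · change tv B u (hA u) v - v ∈ B.orthogonal U
      rw [tv_apply, add_sub_cancel_left]
      exact Submodule.smul_mem _ _ (fun w hw => hUU w hw u hu)
  by_cases hfix : ∃ u : V, u ≠ 0 ∧ g u = u
  · obtain ⟨u, hu0, hu⟩ := hfix
    refine hts (Submodule.span F {u}) ?_ (fun v hv => (span_inv hg.toSemi hu v).2 hv) ?_
    · rw [Ne, Submodule.span_singleton_eq_bot]
      exact hu0
    · intro v hv w hw
      obtain ⟨a, rfl⟩ := Submodule.mem_span_singleton.1 hv
      obtain ⟨b, rfl⟩ := Submodule.mem_span_singleton.1 hw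
      rw [map_smul, map_smul, LinearMap.smul_apply, hA u, smul_zero, smul_zero]
  by_cases hφ1 : φ = RingEquiv.refl F
  swap
  · exact absurd (exists_fixed Nat.prime_three hg.toSemi hgp hφ hφ1) hfix
  subst hφ1
  obtain ⟨g', hg'⟩ := Cfsg.Agent.BpCl.exists_linear hg.toSemi
  have hgg : ∀ v, g v = g' v := fun v => by rw [← hg']; rfl
  have hg3 : ∀ v, g' (g' (g' v)) = v := fun v => by
    rw [← hgg, ← hgg, ← hgg]
    have h1 := congrArg (fun f : Equiv.Perm V => f v) hgp
    exact h1
  -- `1 + g + g² = 0`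
  have hsum : ∀ v, g' (g' v) = -v - g' v := by
    intro v
    have h1 : v + g' v + g' (g' v) = 0 := by
      by_contra hne
      apply hfix
      refine ⟨_, hne, ?_⟩
      rw [hgg, map_add, map_add, hg3]
      abel
    have h2 : g' (g' v) = -(v + g' v) := by
      rw [eq_neg_iff_add_eq_zero, ← h1]
      abel
    rw [h2]
    abel
  -- the quadratic form `B v (g v)`
  let Q : QuadraticForm F V := LinearMap.BilinMap.toQuadraticMap (B.compl₂ g'.toLinearMap)
  have hQ : ∀ v, Q v = B v (g' v) := fun _ => rfl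
  obtain ⟨w, -, hw0, hw⟩ := Cfsg.Agent.LieClassical.OrthFinite.exists_sing_mem (Q := Q) (⊤ : Submodule F V)
    (by rw [finrank_top]; exact hd)
  rw [hQ] at hw
  have hw' : B (g' w) w = 0 := by rw [swap hA, hw, neg_zero]
  refine hts (Submodule.span F {w, g' w}) ?_ ?_ ?_
  · intro h
    have h1 : w ∈ Submodule.span F {w, g' w} := Submodule.subset_span (Or.inl rfl)
    rw [h, Submodule.mem_bot] at h1
    exact hw0 h1
  · intro u hu
    obtain ⟨a, b, rfl⟩ := Submodule.mem_span_pair.1 hu
    rw [hgg, map_add, map_smul, map_smul, hsum]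
    exact Submodule.mem_span_pair.2 ⟨-b, a - b, by module⟩
  · intro u hu v hv
    obtain ⟨a, b, rfl⟩ := Submodule.mem_span_pair.1 hu
    obtain ⟨c, d, rfl⟩ := Submodule.mem_span_pair.1 hv
    simp only [map_add, map_smul, LinearMap.add_apply, LinearMap.smul_apply, hA w, hA (g' w), hw, hw', smul_zero,
      add_zero]

theorem sp_general3 [Finite F] [FiniteDimensional F V] (hd : 3 ≤ Module.finrank F V) {r : ℕ}
    [hr : Fact r.Prime] [CharP F r] (hA : B.IsAlt) (hnd : ∀ u, (∀ v, B u v = 0) → u = 0)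
    (hΓ : ∀ h : V ≃ₗ[F] V, h ∈ Γ ↔ ∀ u v, B (h u) (h v) = B u v) {x : MulAut (↥Γ ⧸ center ↥Γ)}
    {g : Equiv.Perm V} {φ : F ≃+* F} {c a : F} (hg : SemiIso (fun u v => B u v) φ c g) (hc : c ≠ 0) (ha : a ≠ 0)
    (hga : ∀ v, (g ^ 3) v = a • v) (hx : Comp x g) : FixR r x := by
  have hVn : Nontrivial V := Module.nontrivial_of_finrank_pos (R := F) (by omega)
  obtain ⟨v, hv⟩ := exists_ne (0 : V)
  obtain ⟨w, hw⟩ := exists_ne_sp hA hnd hv
  obtain ⟨μ, g', hμ, hg', hgp, hφ, t, ht, htg⟩ := Cfsg.Agent.BpCl.exists_normal (by decide : Odd 3) ha hc hg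
    (fun t u v => by
      rw [map_smul, map_smul, LinearMap.smul_apply, smul_eq_mul, smul_eq_mul]; ring)
    ⟨w, v, hw⟩ hga
  refine sp_norm3 (B := μ • B) hd ?_ ?_ ?_ (g := g') (φ := φ) ?_ hgp hφ (hx.smul htg)
  · intro u
    rw [LinearMap.smul_apply, LinearMap.smul_apply, hA u, smul_zero]
  · intro u hu
    apply hnd
    intro v
    have h1 := hu v
    rw [LinearMap.smul_apply, LinearMap.smul_apply] at h1
    rcases smul_eq_zero.1 h1 with h2 | h2
    · exact absurd h2 hμ
    · exact h2
  · intro h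
    rw [hΓ]
    constructor
    · intro hh u v
      rw [LinearMap.smul_apply, LinearMap.smul_apply, LinearMap.smul_apply, LinearMap.smul_apply, hh]
    · intro hh u v
      have h1 := hh u v
      rw [LinearMap.smul_apply, LinearMap.smul_apply, LinearMap.smul_apply, LinearMap.smul_apply,
        smul_eq_mul, smul_eq_mul] at h1
      exact mul_left_cancel₀ hμ h1
  · exact { add := hg'.add, smul := hg'.smul, form := fun u v => hg'.form u v }

end Sp

/-! ### orthogonal groups -/

section Orth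

open Cfsg.Agent.LieClassical.OrthCore Cfsg.Agent.LieClassical.OrthTrans Cfsg.Agent.LieClassical.OrthSimple

variable {F : Type u} {V : Type v} [Field F] [AddCommGroup V] [Module F V] {Q : QuadraticForm F V}
  {Γ : Subgroup (V ≃ₗ[F] V)}

/-- **Orthogonal groups, order three**, the semilinear isometry normalised. -/
theorem orth_norm3 [Finite F] [FiniteDimensional F V] {r : ℕ} [hr : Fact r.Prime]
    [CharP F r] (hpF : ((3 : ℕ) : F) ≠ 0) (hQ : Nondeg Q) (hd : 5 ≤ Module.finrank F V) (hΓ : Γ = E Q)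
    {x : MulAut (↥Γ ⧸ center ↥Γ)}
    {g : Equiv.Perm V} {φ : F ≃+* F} (hg : SemiIso (fun u _ => Q u) φ 1 g) (hgp : g ^ 3 = 1)
    (hφ : ∀ a, φ^[3] a = a) (hx : Comp x g) : FixR r x := by
  have hG : Good Q := Cfsg.Agent.LieClassical.OrthFinite.good_of_finite hQ (by omega)
  have hVf : Finite V := Module.finite_of_finite F
  have hf0 : Finite (V ≃ₗ[F] V) := Finite.of_injective (fun h : V ≃ₗ[F] V => (h : V → V)) DFunLike.coe_injective
  have hVn : Nontrivial V := Module.nontrivial_of_finrank_pos (R := F) (by omega)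
  have hQg : ∀ u, Q (g u) = φ (Q u) := fun u => by
    have := hg.form u u
    rwa [one_mul] at this
  have hform : ∀ u v, polarBilin Q (g u) (g v) = φ (polarBilin Q u v) := by
    intro u v
    change polar Q (g u) (g v) = φ (polar Q u v)
    unfold polar
    rw [← hg.add, hQg, hQg, hQg, map_sub, map_sub]
  have hrefl := polarBilin_refl Q
  -- a totally singular invariant subspace
  have hts : ∀ U : Submodule F V, U ≠ ⊥ → (∀ u ∈ U, g u ∈ U) → (∀ u ∈ U, Q u = 0) → FixR r x := by
    intro U hU0 hU hUQ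
    obtain ⟨u, hu, hu0⟩ := Submodule.exists_mem_ne_zero_of_ne_bot hU0
    have hU' := inv_iff hU
    have hUU : ∀ u ∈ U, ∀ v ∈ U, polar Q u v = 0 := by
      intro u hu v hv
      unfold polar
      rw [hUQ _ (U.add_mem hu hv), hUQ u hu, hUQ v hv, sub_zero, sub_zero]
    have hUP : U ≤ LinearMap.BilinForm.orthogonal (polarBilin Q) U := fun v hv w hw => hUU w hw v hv
    obtain ⟨w, hw, hwu⟩ : ∃ w ∈ LinearMap.BilinForm.orthogonal (polarBilin Q) U, w ∉ Submodule.span F {u} := by
      by_contra hcon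
      push Not at hcon
      have h1 : LinearMap.BilinForm.orthogonal (polarBilin Q) U ≤ Submodule.span F {u} := hcon
      have h2 := Submodule.finrank_mono h1
      have h3 := Submodule.finrank_mono hUP
      have h4 := finrank_span_singleton (K := F) hu0
      have h6 := LinearMap.BilinForm.finrank_add_finrank_orthogonal hrefl U
      omega
    have hu' : Q u = 0 := hUQ u hu
    have hw' : polar Q u w = 0 := hw u hu
    have hmem : siegel Q u w hu' hw' ∈ Γ := by rw [hΓ]; exact siegel_mem_E hu' hw'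
    refine hx.fixR_unip hg.add (U := U) (P := LinearMap.BilinForm.orthogonal (polarBilin Q) U) hUP hU'
      (orth_iff hform hU') ⟨_, hmem⟩ ?_ ?_
    · refine ⟨fun v hv => ?_, fun v hv => ?_, fun v => ?_⟩
      · change siegel Q u w hu' hw' v = v
        have h1 : polar Q w v = 0 := by rw [polar_comm]; exact hw v hv
        rw [siegel_apply, hUU u hu v hv, h1, zero_smul, zero_smul, mul_zero, zero_smul, add_zero, sub_zero, sub_zero]
      · change siegel Q u w hu' hw' v - v ∈ U
        have h1 : polar Q u v = 0 := hv u hu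
        rw [siegel_apply, h1, zero_smul, mul_zero, zero_smul, add_zero, sub_zero, sub_sub_cancel_left]
        exact U.neg_mem (U.smul_mem _ hu)
      · change siegel Q u w hu' hw' v - v ∈ LinearMap.BilinForm.orthogonal (polarBilin Q) U
        have e : siegel Q u w hu' hw' v - v = polar Q u v • w - polar Q w v • u - (Q w * polar Q u v) • u := by
          rw [siegel_apply]; abel
        rw [e]
        exact Submodule.sub_mem _ (Submodule.sub_mem _ (Submodule.smul_mem _ _ hw)
          (Submodule.smul_mem _ _ (hUP hu))) (Submodule.smul_mem _ _ (hUP hu))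
    · intro hz
      obtain ⟨c, hc⟩ := center_scalar_orth hG hΓ hz
      have hc' : ∀ v, siegel Q u w hu' hw' v = c • v := hc
      have h1 := hc' u
      have h2 : polar Q u u = 0 := polar_self_of_sing hu'
      have h3 : polar Q w u = 0 := by rw [polar_comm]; exact hw'
      rw [siegel_apply, h2, h3, zero_smul, zero_smul, mul_zero, zero_smul, add_zero, sub_zero, sub_zero] at h1
      have hc1 : c = 1 := by
        have h4 : (c - 1) • u = 0 := by rw [sub_smul, one_smul, ← h1, sub_self]
        rcases smul_eq_zero.1 h4 with h5 | h5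
        · exact sub_eq_zero.1 h5
        · exact absurd h5 hu0
      obtain ⟨u', huu'⟩ := exists_hyp hG.nondeg hu' hu0
      have h4 := hc' u'
      rw [siegel_apply, huu'.pair, hc1, one_smul, one_smul, mul_one] at h4
      apply hwu
      rw [Submodule.mem_span_singleton]
      refine ⟨polar Q w u' + Q w, ?_⟩
      have h6 : u' + w - polar Q w u' • u - Q w • u - u' = 0 := by rw [h4, sub_self]
      rw [add_smul]
      have h7 : w - (polar Q w u' • u + Q w • u) = 0 := by rw [← h6]; abel
      exact (sub_eq_zero.1 h7).symm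
  have hsing : ∀ u : V, u ≠ 0 → g u = u → Q u = 0 → FixR r x := by
    intro u hu0 hu hQu
    refine hts (Submodule.span F {u}) ?_ (fun v hv => (span_inv hg.toSemi hu v).2 hv) ?_
    · rw [Ne, Submodule.span_singleton_eq_bot]
      exact hu0
    · intro v hv
      obtain ⟨a, rfl⟩ := Submodule.mem_span_singleton.1 hv
      rw [QuadraticMap.map_smul, hQu, smul_zero]
  by_cases hφ1 : φ = RingEquiv.refl F
  swap
  · -- a field automorphism is involved
    have hspan := Cfsg.Agent.BpCl.span_U hg.toSemi Nat.prime_three hgp hφ hφ1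
    obtain ⟨ι, _, b, b0, hb⟩ := Cfsg.Agent.BpCl.exists_basis hg.toSemi hspan
    have h1 : Module.finrank F V = Fintype.card ι := Module.finrank_eq_card_basis b
    have h2 : Module.finrank (Cfsg.Agent.BpCl.K0 φ) (Cfsg.Agent.BpCl.U hg.toSemi) = Fintype.card ι :=
      Module.finrank_eq_card_basis b0
    have hfd : Module.Finite (Cfsg.Agent.BpCl.K0 φ) (Cfsg.Agent.BpCl.U hg.toSemi) := Module.Finite.of_basis b0
    obtain ⟨w, -, hw0, hw⟩ := Cfsg.Agent.LieClassical.OrthFinite.exists_sing_mem
      (Q := Cfsg.Agent.BpCl.quad0 hg) (⊤ : Submodule (Cfsg.Agent.BpCl.K0 φ) (Cfsg.Agent.BpCl.U hg.toSemi))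
      (by rw [finrank_top]; omega)
    have h3 : Q (w : V) = 0 := by
      rw [← Cfsg.Agent.BpCl.quad0_coe hg w, hw]
      rfl
    exact hsing w (fun h => hw0 (Subtype.ext h)) w.2 h3
  subst hφ1
  obtain ⟨g', hg'⟩ := Cfsg.Agent.BpCl.exists_linear hg.toSemi
  have hgg : ∀ v, g v = g' v := fun v => by rw [← hg']; rfl
  have hgO : ∀ v, Q (g' v) = Q v := fun v => by rw [← hgg, hQg]; rfl
  have hgp' : g' ^ 3 = 1 := by
    apply LinearEquiv.ext
    intro v
    rw [Cfsg.Agent.BpCl.lin_pow, hg', hgp]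
    rfl
  have hg3 : ∀ v, g' (g' (g' v)) = v := fun v => by
    rw [← hgg, ← hgg, ← hgg]
    have h1 := congrArg (fun f : Equiv.Perm V => f v) hgp
    exact h1
  -- the fixed space
  by_cases hW0 : 3 ≤ Module.finrank F (BpCl.W0 g')
  · obtain ⟨w, hw, hw0, hQw⟩ := Cfsg.Agent.LieClassical.OrthFinite.exists_sing_mem (Q := Q) (BpCl.W0 g') hW0
    exact hsing w hw0 (by rw [hgg]; exact BpCl.mem_W0.1 hw) hQw
  have hcW := BpCl.isCompl_W (p := 3) hgp' hpF
  have hfr := Submodule.finrank_add_eq_of_isCompl hcW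
  obtain ⟨w, hw, hw0, hQw⟩ := Cfsg.Agent.LieClassical.OrthFinite.exists_sing_mem (Q := Q) (BpCl.W1 3 g') (by omega)
  have hsum : w + g' w + g' (g' w) = 0 := by
    have h1 := BpCl.mem_W1.1 hw
    rw [BpCl.trc_apply, Finset.sum_range_succ, Finset.sum_range_succ, Finset.sum_range_one] at h1
    exact h1
  have hsum' : g' (g' w) = -w - g' w := by
    have h2 : g' (g' w) = -(w + g' w) := by
      rw [eq_neg_iff_add_eq_zero, ← hsum]
      abel
    rw [h2]
    abel
  have hpol : polar Q w (g' w) = 0 := by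
    have h1 : Q (w + g' w) = 0 := by
      have h2 : w + g' w = -(g' (g' w)) := by rw [hsum']; abel
      rw [h2, QuadraticMap.map_neg, hgO, hgO, hQw]
    unfold polar
    rw [h1, hgO, hQw, sub_zero, sub_zero]
  refine hts (Submodule.span F {w, g' w}) ?_ ?_ ?_
  · intro h
    have h1 : w ∈ Submodule.span F {w, g' w} := Submodule.subset_span (Or.inl rfl)
    rw [h, Submodule.mem_bot] at h1
    exact hw0 h1
  · intro u hu
    obtain ⟨a, b, rfl⟩ := Submodule.mem_span_pair.1 hu
    rw [hgg, map_add, map_smul, map_smul, hsum']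
    exact Submodule.mem_span_pair.2 ⟨-b, a - b, by module⟩
  · intro u hu
    obtain ⟨a, b, rfl⟩ := Submodule.mem_span_pair.1 hu
    rw [Q_add, QuadraticMap.map_smul, QuadraticMap.map_smul, hgO, hQw, polar_smul_left, polar_smul_right, hpol]
    simp

theorem orth_general3 [Finite F] [FiniteDimensional F V] {r : ℕ} [hr : Fact r.Prime]
    [CharP F r] (hpF : ((3 : ℕ) : F) ≠ 0) (hQ : Nondeg Q) (hd : 5 ≤ Module.finrank F V) (hΓ : Γ = E Q)
    {x : MulAut (↥Γ ⧸ center ↥Γ)}
    {g : Equiv.Perm V} {φ : F ≃+* F} {c a : F} (hg : SemiIso (fun u _ => Q u) φ c g) (hc : c ≠ 0) (ha : a ≠ 0)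
    (hga : ∀ v, (g ^ 3) v = a • v) (hx : Comp x g) : FixR r x := by
  have hG := Cfsg.Agent.LieClassical.OrthFinite.good_of_finite hQ (by omega)
  have h1 : ∃ v, Q v ≠ 0 := by
    by_contra hcon
    push Not at hcon
    obtain ⟨x, y, h⟩ := hG.exists_hyp
    have h2 := h.pair
    unfold polar at h2
    rw [hcon, hcon, hcon, sub_zero, sub_zero] at h2
    exact one_ne_zero h2.symm
  obtain ⟨w, hw⟩ := h1
  obtain ⟨μ, g', hμ, hg', hgp, hφ, t, ht, htg⟩ := Cfsg.Agent.BpCl.exists_normal (by decide : Odd 3) ha hc hg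
    (fun t u v => by
      rw [QuadraticMap.map_smul, smul_eq_mul]; ring)
    ⟨w, w, hw⟩ hga
  refine orth_norm3 (Q := μ • Q) hpF ?_ hd (by rw [hΓ, E_smul hμ]) (g := g') (φ := φ) ?_ hgp hφ (hx.smul htg)
  · intro u hu
    apply hQ
    intro v
    have h1 := hu v
    rw [polar_smul_form] at h1
    exact (mul_eq_zero.1 h1).resolve_left hμ
  · exact { add := hg'.add, smul := hg'.smul, form := fun u v => hg'.form u v }

end Orth

end Cfsg.Agent.H107.FixThree
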