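import Cfsg.Agent.H107.PglExcRows

/-!
# Rows `E6`, `E7` for the recognition of `PGL_2(q)` by spectrum (helper107, task PGL-E2 of S3447)
-/

set_option autoImplicit false
set_option linter.unusedSectionVars false

namespace Cfsg.Agent.H107.PglExc

open CoxeterSystem Subgroup Cfsg Cfsg.Lie Cfsg.Lie.ChevalleyDatum
open Cfsg.Agent.ChevalleyStructure.CoxeterGeomTypes
open Cfsg.Agent.Nodes.RGDChev Cfsg.Agent.KFacts.RgdChevCoord Cfsg.Agent.BpExc.TorChev
open Cfsg.Agent.BpExc.RowsUntw Cfsg.Agent.BpExc.FamInst Cfsg.Agent.BpExc.FamExt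
open Cfsg.Agent.H378.SmallTor Cfsg.Agent.H378.AdjTab Cfsg.Agent.H378.CycTab Cfsg.Agent.H378.ExcAdj
open Cfsg.Agent.H378.ExcNear Cfsg.Agent.H378.RegFin Cfsg.Agent.H378
open Cfsg.Agent.H493.PGTorus Cfsg.Agent.H129.WData
open Cfsg.Agent.H564.NearTwo (Near)
open Cfsg.Agent.H369.Pgl

universe u v

/-! ### E6 -/

theorem e6_num {u : ℕ} (hu : 2 ≤ u) :
    9 * ((u : ℤ) * ((u : ℤ) ^ 4 + 1) * ((u : ℤ) ^ 4 - u ^ 2 + 1) + 1) < ((u : ℤ) ^ 6 + u ^ 3 + 1) ^ 2 := by
  obtain ⟨t, rfl⟩ : ∃ t : ℕ, u = t + 2 := ⟨u - 2, by omega⟩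
  push_cast
  exact poly_pos (Q := t ^ 12 + 24 * t ^ 11 + 264 * t ^ 10 + 1753 * t ^ 9 + 7794 * t ^ 8 + 24345 * t ^ 7 +
    54561 * t ^ 6 + 88038 * t ^ 5 + 101016 * t ^ 4 + 79819 * t ^ 3 + 40722 * t ^ 2 + 11739 * t + 1342)
    (by ring) (by positivity)

theorem exists_c12 {u : ℕ} (hu : 2 ≤ u) : ∃ C : ℕ, 0 < C ∧ (C : ℤ) = (u : ℤ) ^ 4 - u ^ 2 + 1 ∧
    u ^ 8 - 1 = (u ^ 4 - 1) * (u ^ 4 + 1) ∧ u ^ 12 - 1 = (u ^ 6 - 1) * (u ^ 2 + 1) * C := by
  have hpos : 0 < (u : ℤ) ^ 4 - u ^ 2 + 1 := by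
    obtain ⟨t, rfl⟩ : ∃ t : ℕ, u = t + 2 := ⟨u - 2, by omega⟩
    push_cast
    exact poly_pos (Q := t ^ 4 + 8 * t ^ 3 + 23 * t ^ 2 + 28 * t + 13) (by ring) (by positivity)
  have h1 : ∀ n : ℕ, 1 ≤ u ^ n := fun n => Nat.one_le_pow _ _ (by omega)
  refine ⟨((u : ℤ) ^ 4 - u ^ 2 + 1).toNat, ?_, Int.toNat_of_nonneg hpos.le, ?_, ?_⟩
  · rw [Int.lt_toNat]
    exact_mod_cast hpos
  · zify [h1 8, h1 4]
    ring
  · have h := Int.toNat_of_nonneg hpos.le
    zify [h1 12, h1 6]
    rw [h]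
    ring

/-- **E6(u)** -/
theorem row_e6 {S : Type*} [Group S] [Finite S] [IsSimpleGroup S] (hna : ¬ IsMulCommutative S) {p m : ℕ}
    {X : Subgroup (MulAut S)} (H : Sit S p m X) {F : Type} [Field F] [Fintype F]
    (e : S ≃* ↥(chevE6.group F)) (adj3 : AdjThree ↥(chevE6.group F) (Nat.card F) [8, 9, 12])
    (h12 : ∃ g : ↥(chevE6.group F), 12 ∣ orderOf g) (h3 : ∃ P : Sylow 3 ↥(chevE6.group F), ¬ IsCyclic P) : False := by
  obtain ⟨_, _, hnaT, Y, HT⟩ := transport hna H e
  obtain ⟨r, _, _, f, hf, hr⟩ := exists_charP F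
  have hF : Fintype.card F = r ^ f := by rw [← Nat.card_eq_fintype_card]; exact hr
  have hout := Cfsg.Agent.S2123.result r f hF
  have hcard := Cfsg.Agent.S1063.result (F := F) hF
  have hf2 := two_mul_le hf (Fact.out : r.Prime).two_le hr
  have hiso : ∀ g : ↥(chevE6.group F), p ∣ orderOf g → orderOf g = p := fun g hg => HT.iso hnaT hg
  have hod := (near_E6 F HT.hp HT.dvd).resolve_left (not_near HT.hp2 hiso)
  have hp3 := HT.three_le
  have hk : 2 ≤ Nat.card F := Finite.one_lt_card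
  have haut := card_mulAut (Sit.conj_inj hnaT)
  rw [hout] at haut
  rw [← hr] at haut hcard
  have hpne3 : p ≠ 3 := by
    rintro rfl
    exact not_dvd_of_od HT.hp hod (d := 3) (by norm_num) (by norm_num) dvd_rfl
  have hcop : p.Coprime (Nat.gcd 3 (Nat.card F - 1)) :=
    coprime_gcd HT.hp fun h => hpne3 ((Nat.prime_dvd_prime_iff_eq HT.hp Nat.prime_three).1 h)
  obtain ⟨c', hc1, hc2⟩ := torus_eq e6T inv_E6 three_ne_zero AdjE6.hA AdjE6.chain9 AdjE6.tor9_9 (F := F)
    HT.hp (by rw [pv9]; positivity) (dvd9 HT.hp hod) hcop hiso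
  rw [pv9] at hc2
  have hc3 : c' ∣ 3 := hc1.trans (Nat.gcd_dvd_left _ _)
  obtain ⟨C, hC0, hC, e8, e12⟩ := exists_c12 hk
  have hnq : ∀ {s e' : ℕ}, s.Prime → od (Nat.card F) s = e' → 0 < e' → ¬ s ∣ Nat.card F :=
    fun h1 h2 h3 => not_dvd_q h1 h2 h3
  have hod' : ∀ {s n : ℕ}, s ∣ (Nat.card F) ^ n - 1 → od (Nat.card F) s ∣ n := fun h => od_dvd (by omega) h
  have hAdj := adj3
  have hd9 : ∀ {s : ℕ}, s.Prime → od (Nat.card F) s = 9 → s = 3 ∨ s = p := by
    intro s hs h
    have h1 := dvd9 hs h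
    rw [pv9, hc2] at h1
    have h2 : s ∣ p * c' := by exact_mod_cast h1
    rcases hs.dvd_mul.1 h2 with h4 | h4
    · exact Or.inr ((Nat.prime_dvd_prime_iff_eq hs HT.hp).1 h4)
    · exact Or.inl ((Nat.prime_dvd_prime_iff_eq hs Nat.prime_three).1 (h4.trans hc3))
  unfold AdjThree at hAdj
  generalize Nat.card F = u at *
  have hfin := HT.three_card hnaT h12 h3
    (A := 2 * (u ^ 36 * (u ^ 2 - 1) * (u ^ 5 - 1) * (u ^ 6 - 1) * (u ^ 4 - 1) * (u ^ 9 - 1) * (u ^ 6 - 1) *
      (u ^ 2 + 1))) (B := (u ^ 4 + 1) * C * f) (by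
      rw [haut]
      refine dvd_of_eq ?_
      calc Nat.card ↥(chevE6.group F) * (2 * Nat.gcd 3 (u - 1) * f) =
          2 * f * (Nat.gcd 3 (u - 1) * Nat.card ↥(chevE6.group F)) := by ring
        _ = _ := by rw [hcard, e8, e12]; ring) (by positivity) (by
      intro s hs hsA
      by_cases hs2 : s = 2
      · exact Or.inl hs2
      have h4 : u ^ 4 - 1 = (u ^ 2 - 1) * (u ^ 2 + 1) := by
        have h1 : ∀ n : ℕ, 1 ≤ u ^ n := fun n => Nat.one_le_pow _ _ (by omega)
        zify [h1 4, h1 2]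
        ring
      have hsA' := hsA
      simp only [hs.dvd_mul] at hsA'
      have hcases : s ∣ u ∨ s ∣ u ^ 2 - 1 ∨ s ∣ u ^ 5 - 1 ∨ s ∣ u ^ 6 - 1 ∨ s ∣ u ^ 4 - 1 ∨ s ∣ u ^ 9 - 1 := by
        rcases hsA' with h | ((((((h | h) | h) | h) | h) | h) | h) | h
        · exact absurd ((Nat.prime_dvd_prime_iff_eq hs Nat.prime_two).1 h) hs2
        · exact Or.inl (hs.dvd_of_dvd_pow h)
        · tauto
        · tauto
        · tauto
        · tauto
        · tauto
        · tauto
        · right; right; right; right; left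
          rw [h4]
          exact h.mul_left _
      have hsN : s ∣ Nat.gcd 3 (u - 1) * Nat.card ↥(chevE6.group F) := by
        rw [hcard, e8, e12]
        rcases hcases with h | h | h | h | h | h
        · exact (dvd_pow h (by norm_num)).mul_right _ |>.mul_right _ |>.mul_right _ |>.mul_right _ |>.mul_right _ |>.mul_right _
        · exact (h.mul_left _).mul_right _ |>.mul_right _ |>.mul_right _ |>.mul_right _ |>.mul_right _
        · exact (h.mul_left _).mul_right _ |>.mul_right _ |>.mul_right _ |>.mul_right _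
        · exact (h.mul_left _).mul_right _ |>.mul_right _ |>.mul_right _
        · exact ((h.mul_right _).mul_left _).mul_right _ |>.mul_right _
        · exact (h.mul_left _).mul_right _
      rcases hs.dvd_mul.1 hsN with h | h
      · exact Or.inr (Or.inl ((Nat.prime_dvd_prime_iff_eq hs Nat.prime_three).1 (h.trans (Nat.gcd_dvd_left _ _))))
      rcases hAdj s hs h with h | h | h | h
      · exact Or.inl h
      · exact Or.inr (Or.inl h)
      · exact Or.inr (Or.inr (Or.inr h))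
      · simp only [List.mem_cons, List.not_mem_nil, or_false] at h
        rcases h with h | h | h
        · exfalso
          rcases hcases with h5 | h5 | h5 | h5 | h5 | h5
          · exact hnq hs h (by norm_num) h5
          all_goals
            have h6 := hod' h5
            rw [h] at h6
            omega
        · rcases hd9 hs h with h5 | h5
          · exact Or.inr (Or.inl h5)
          · exact Or.inr (Or.inr (Or.inl h5))
        · exfalso
          rcases hcases with h5 | h5 | h5 | h5 | h5 | h5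
          · exact hnq hs h (by norm_num) h5
          all_goals
            have h6 := hod' h5
            rw [h] at h6
            omega)
  obtain ⟨-, -, hle⟩ := hfin
  have hc4 : c' ≤ 3 := Nat.le_of_dvd (by norm_num) hc3
  have hnum := e6_num hk
  rw [hc2] at hnum
  have h1 : (p : ℤ) ^ 2 ≤ 2 * ((((u : ℤ) ^ 4 + 1) * C * f)) + 1 := by
    have h2 : p ^ 2 ≤ 2 * ((u ^ 4 + 1) * C * f) + 1 := by omega
    exact_mod_cast h2
  have h2 : ((u : ℤ) ^ 4 + 1) * C * (2 * f) ≤ ((u : ℤ) ^ 4 + 1) * C * u := by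
    apply mul_le_mul_of_nonneg_left _ (by positivity)
    exact_mod_cast hf2
  have h3 : ((p : ℤ) * c') ^ 2 ≤ 9 * (p : ℤ) ^ 2 := by
    have h4 : (c' : ℤ) ≤ 3 := by exact_mod_cast hc4
    have h5 : (c' : ℤ) ^ 2 ≤ 9 := by
      have : (0 : ℤ) ≤ c' := by positivity
      nlinarith
    calc ((p : ℤ) * c') ^ 2 = (p : ℤ) ^ 2 * (c' : ℤ) ^ 2 := by ring
      _ ≤ (p : ℤ) ^ 2 * 9 := mul_le_mul_of_nonneg_left h5 (by positivity)
      _ = _ := by ring
  rw [← hC] at hnum
  have h6 : ((u : ℤ) ^ 4 + 1) * C * u = (u : ℤ) * ((u : ℤ) ^ 4 + 1) * C := by ring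
  linarith

/-! ### E7 -/

theorem semi {p s k m : ℕ} (hk : 0 < k) (h1 : p ^ (2 * k) % s = 1) (h2 : ∀ r < k, p ^ (2 * r) % s = 1 → r = 0)
    (h : p ^ (2 * m) % s = 1) : k ∣ m := by
  have hm : 2 * m = (2 * k) * (m / k) + 2 * (m % k) := by
    have := Nat.div_add_mod m k
    calc 2 * m = 2 * (k * (m / k) + m % k) := by rw [this]
      _ = _ := by ring
  have h3 : p ^ (2 * (m % k)) % s = 1 := by
    rw [hm, pow_add, pow_mul, Nat.mul_mod, Nat.pow_mod (p ^ (2 * k)), h1, one_pow] at h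
    have hs1 : 1 % s = 1 := by
      rw [← h1, Nat.mod_mod]
    rw [hs1, one_mul, Nat.mod_mod] at h
    exact h
  exact Nat.dvd_of_mod_eq_zero (h2 _ (Nat.mod_lt _ hk) h3)

theorem sq_one {p m s : ℕ} (hp : 0 < p) (hs : 1 < s) (h : s ∣ p ^ m - 1 ∨ s ∣ p ^ m + 1) : p ^ (2 * m) % s = 1 := by
  have h1 : 1 ≤ p ^ m := Nat.one_le_pow _ _ hp
  have h2 : s ∣ p ^ (2 * m) - 1 := by
    have e : p ^ (2 * m) - 1 = (p ^ m + 1) * (p ^ m - 1) := by
      rw [mul_comm 2 m, pow_mul]
      have := Nat.sq_sub_sq (p ^ m) 1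
      rw [one_pow] at this
      exact this
    rw [e]
    rcases h with h | h
    · exact h.mul_left _
    · exact h.mul_right _
  have h3 : 1 ≤ p ^ (2 * m) := Nat.one_le_pow _ _ hp
  have h4 : (1 : ℕ) ≡ p ^ (2 * m) [MOD s] := (Nat.modEq_iff_dvd' h3).2 h2
  rw [← h4, Nat.mod_eq_of_lt hs]

/-- the final contradiction for the explicit groups -/
theorem expl {S : Type*} [Group S] [Finite S] [IsSimpleGroup S] (hna : ¬ IsMulCommutative S) {p m : ℕ}
    {X : Subgroup (MulAut S)} (H : Sit S p m X) {N P s k s' k' K : ℕ} (hN : Nat.card (MulAut S) = N)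
    (hp : p = P) (hs : s.Prime) (hs' : s'.Prime) (hsS : s ∣ Nat.card S) (hsS' : s' ∣ Nat.card S) (hsp : s ≠ P)
    (hsp' : s' ≠ P) (hk : 0 < k) (hk' : 0 < k')
    (h1 : P ^ (2 * k) % s = 1) (h2 : ∀ r < k, P ^ (2 * r) % s = 1 → r = 0)
    (h1' : P ^ (2 * k') % s' = 1) (h2' : ∀ r < k', P ^ (2 * r) % s' = 1 → r = 0) (hK : K ≤ Nat.lcm k k')
    (hfin : 2 * N + 1 < P ^ K) : False := by
  subst hp
  have hd := (H.prime_dvd hna hs hsS).resolve_left hsp
  have hd' := (H.prime_dvd hna hs' hsS').resolve_left hsp'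
  have hm := semi hk h1 h2 (sq_one H.hp.pos hs.one_lt hd)
  have hm' := semi hk' h1' h2' (sq_one H.hp.pos hs'.one_lt hd')
  have hl : Nat.lcm k k' ∣ m := Nat.lcm_dvd hm hm'
  have hm2 := H.hm
  have hle : K ≤ m := hK.trans (Nat.le_of_dvd (by omega) hl)
  have h3 : p ^ K ≤ p ^ m := Nat.pow_le_pow_right H.hp.pos hle
  obtain ⟨x, hx, hxo⟩ := H.kill
  have h4 : orderOf x ≤ N := by
    rw [← hN]
    exact Nat.le_of_dvd Nat.card_pos (orderOf_dvd_natCard x)
  omega

/-- **E7(u)** -/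
theorem row_e7 {S : Type*} [Group S] [Finite S] [IsSimpleGroup S] (hna : ¬ IsMulCommutative S) {p m : ℕ}
    {X : Subgroup (MulAut S)} (H : Sit S p m X) {F : Type} [Field F] [Fintype F]
    (e : S ≃* ↥(chevE7.group F)) : False := by
  obtain ⟨_, _, hnaT, Y, HT⟩ := transport hna H e
  obtain ⟨r, _, _, f, hf, hr⟩ := exists_charP F
  have hF : Fintype.card F = r ^ f := by rw [← Nat.card_eq_fintype_card]; exact hr
  have hout := Cfsg.Agent.S2124.result r f hF
  have hcard := Cfsg.Agent.S1064.result (F := F) hF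
  have hf2 := two_mul_le hf (Fact.out : r.Prime).two_le hr
  have hiso : ∀ g : ↥(chevE7.group F), p ∣ orderOf g → orderOf g = p := fun g hg => HT.iso hnaT hg
  obtain ⟨hle, hod⟩ := (near_E7 F HT.hp HT.dvd).resolve_left (not_near HT.hp2 hiso)
  have hk : 2 ≤ Nat.card F := Finite.one_lt_card
  have haut := card_mulAut (Sit.conj_inj hnaT)
  have hf1 : f = 1 := by omega
  rw [hout, hf1, mul_one, mul_comm] at haut
  subst hf1
  rw [pow_one] at haut hcard hr
  rw [← hr] at haut hcard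
  rw [hcard] at haut
  have hP : ∀ {P : ℕ}, P.Prime → (p : ℤ) ∣ (P : ℤ) → p = P := by
    intro P hPp h
    exact (Nat.prime_dvd_prime_iff_eq HT.hp hPp).1 (Int.natCast_dvd_natCast.1 h)
  have h23 : Nat.card F = 2 ∨ Nat.card F = 3 := by omega
  rcases h23 with h23 | h23
  · rw [h23] at haut hcard hod
    have hc : Nat.card ↥(chevE7.group F) = 2 ^ 63 * (2 ^ 2 - 1) * (2 ^ 6 - 1) * (2 ^ 8 - 1) * (2 ^ 10 - 1) *
        (2 ^ 12 - 1) * (2 ^ 14 - 1) * (2 ^ 18 - 1) := by
      rw [← hcard]; norm_num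
    rcases hod with hod | hod
    · have h1 := dvd7 HT.hp hod
      rw [pv7] at h1
      have h2 := hP (P := 127) (by norm_num) (by norm_num at h1 ⊢; exact h1)
      exact expl hnaT HT haut h2 (s := 17) (k := 4) (s' := 31) (k' := 15) (K := 60) (by norm_num) (by norm_num)
        (by rw [hc]; norm_num) (by rw [hc]; norm_num) (by norm_num) (by norm_num) (by norm_num) (by norm_num)
        (by decide +kernel) (by decide +kernel) (by decide +kernel) (by decide +kernel) (by decide +kernel)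
        (by decide +kernel)
    · have h1 := dvd9 HT.hp hod
      rw [pv9] at h1
      have h2 := hP (P := 73) (by norm_num) (by norm_num at h1 ⊢; exact h1)
      exact expl hnaT HT haut h2 (s := 17) (k := 8) (s' := 7) (k' := 3) (K := 24) (by norm_num) (by norm_num)
        (by rw [hc]; norm_num) (by rw [hc]; norm_num) (by norm_num) (by norm_num) (by norm_num) (by norm_num)
        (by decide +kernel) (by decide +kernel) (by decide +kernel) (by decide +kernel) (by decide +kernel)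
        (by decide +kernel)
  · rw [h23] at haut hcard hod
    have hc : ∀ {s : ℕ}, s.Prime → s ≠ 2 → s ∣ 3 ^ 63 * (3 ^ 2 - 1) * (3 ^ 6 - 1) * (3 ^ 8 - 1) * (3 ^ 10 - 1) *
        (3 ^ 12 - 1) * (3 ^ 14 - 1) * (3 ^ 18 - 1) → s ∣ Nat.card ↥(chevE7.group F) := by
      intro s hs h2 h
      rw [← hcard] at h
      refine Nat.Coprime.dvd_of_dvd_mul_left ?_ h
      exact coprime_gcd hs fun h => h2 ((Nat.prime_dvd_prime_iff_eq hs Nat.prime_two).1 h)
    rcases hod with hod | hod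
    · have h1 := dvd7 HT.hp hod
      rw [pv7] at h1
      have h2 := hP (P := 1093) (by norm_num) (by norm_num at h1 ⊢; exact h1)
      exact expl hnaT HT haut h2 (s := 41) (k := 4) (s' := 19) (k' := 9) (K := 36) (by norm_num) (by norm_num)
        (hc (by norm_num) (by norm_num) (by norm_num)) (hc (by norm_num) (by norm_num) (by norm_num))
        (by norm_num) (by norm_num) (by norm_num) (by norm_num)
        (by decide +kernel) (by decide +kernel) (by decide +kernel) (by decide +kernel) (by decide +kernel)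
        (by decide +kernel)
    · have h1 := dvd9 HT.hp hod
      rw [pv9] at h1
      have h2 := hP (P := 757) (by norm_num) (by norm_num at h1 ⊢; exact h1)
      exact expl hnaT HT haut h2 (s := 41) (k := 20) (s' := 13) (k' := 3) (K := 60) (by norm_num) (by norm_num)
        (hc (by norm_num) (by norm_num) (by norm_num)) (hc (by norm_num) (by norm_num) (by norm_num))
        (by norm_num) (by norm_num) (by norm_num) (by norm_num)
        (by decide +kernel) (by decide +kernel) (by decide +kernel) (by decide +kernel) (by decide +kernel)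
        (by decide +kernel)

end Cfsg.Agent.H107.PglExc
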