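import Cfsg.Agent.H107.PglExc
import Cfsg.Agent.S2121
import Cfsg.Agent.S2122
import Cfsg.Agent.S2123
import Cfsg.Agent.S2124
import Cfsg.Agent.S2125

/-!
# Rows `G2`, `F4`, `E6`, `E7`, `E8` for the recognition of `PGL_2(q)` by spectrum (helper107, task PGL-E2 of S3447)
-/

set_option autoImplicit false
set_option linter.unusedSectionVars false

namespace Cfsg.Agent.H107.PglExc

open CoxeterSystem Subgroup Cfsg Cfsg.Lie Cfsg.Lie.ChevalleyDatum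
open Cfsg.Agent.ChevalleyStructure.CoxeterGeomTypes
open Cfsg.Agent.Nodes.RGDChev Cfsg.Agent.KFacts.RgdChevCoord Cfsg.Agent.BpExc.TorChev
open Cfsg.Agent.BpExc.RowsUntw Cfsg.Agent.BpExc.FamInst Cfsg.Agent.BpExc.FamExt
open Cfsg.Agent.H378.SmallTor Cfsg.Agent.H378.AdjTab Cfsg.Agent.H378.CycTab Cfsg.Agent.H378.ExcAdj
open Cfsg.Agent.H378.ExcNear Cfsg.Agent.H378.RegFin Cfsg.Agent.H378
open Cfsg.Agent.H493.PGTorus Cfsg.Agent.H129.WData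
open Cfsg.Agent.H564.NearTwo (Near)
open Cfsg.Agent.H369.Pgl

universe u v

/-- the hypothesis on the primes adjacent to `3` (task PGL-E1) -/
def AdjThree (G : Type*) [Group G] (q : ℕ) (L : List ℕ) : Prop :=
  ∀ r : ℕ, r.Prime → r ∣ Nat.card G → r = 2 ∨ r = 3 ∨ (∃ g : G, r * 3 ∣ orderOf g ∨ r * 4 ∣ orderOf g) ∨ od q r ∈ L

theorem two_mul_le {f r u : ℕ} (hf : 0 < f) (hr : 2 ≤ r) (hu : u = r ^ f) : 2 * f ≤ u := by
  obtain ⟨g, rfl⟩ : ∃ g, f = g + 1 := ⟨f - 1, by omega⟩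
  have h1 : g < 2 ^ g := Nat.lt_two_pow_self
  have h2 : 2 ^ (g + 1) ≤ r ^ (g + 1) := Nat.pow_le_pow_left hr _
  rw [hu]
  have h3 : 2 ^ (g + 1) = 2 * 2 ^ g := by ring
  omega

theorem cast_natAbs {q : ℕ} (hq : 2 ≤ q) (e : ℕ) :
    ((((Polynomial.cyclotomic e ℤ).eval ((q : ℕ) : ℤ)).natAbs : ℕ) : ℤ) = (Polynomial.cyclotomic e ℤ).eval ((q : ℕ) : ℤ) :=
  H416.Arith.cast_c e hq

/-- the conclusion of `gen` over the integers -/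
theorem gen_int {u p f : ℕ} {L : List ℕ} (hu : 2 ≤ u) (hf : 2 * f ≤ u) (hp : 2 ≤ p)
    (h : p ^ 2 - 1 ≤ 2 * f ∨ ∃ e ∈ L, p ^ 2 - 1 ≤
      2 * (((Polynomial.cyclotomic e ℤ).eval ((u : ℕ) : ℤ)).natAbs * f)) {P Q : ℤ} (hP : P ≤ p) (hP0 : 0 ≤ P)
    (hQ1 : 1 ≤ Q) (hQ : ∀ e ∈ L, (Polynomial.cyclotomic e ℤ).eval ((u : ℕ) : ℤ) ≤ Q)
    (hPQ : (u : ℤ) * Q < P ^ 2 - 1) : False := by
  have h0 : (P : ℤ) ^ 2 ≤ (p : ℤ) ^ 2 := pow_le_pow_left₀ hP0 hP 2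
  have hp1 : 1 ≤ p ^ 2 := Nat.one_le_pow _ _ (by omega)
  have hf' : (2 : ℤ) * f ≤ u := by exact_mod_cast hf
  rcases h with h | ⟨e, he, h⟩
  · have h1 : ((p ^ 2 - 1 : ℕ) : ℤ) ≤ ((2 * f : ℕ) : ℤ) := by exact_mod_cast h
    rw [Nat.cast_sub hp1] at h1
    push_cast at h1
    have hu0 : (0 : ℤ) ≤ u := by positivity
    nlinarith
  · have h1 : ((p ^ 2 - 1 : ℕ) : ℤ) ≤ ((2 * (((Polynomial.cyclotomic e ℤ).eval ((u : ℕ) : ℤ)).natAbs * f) : ℕ) : ℤ) := by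
      exact_mod_cast h
    rw [Nat.cast_sub hp1, Nat.cast_mul, Nat.cast_mul, cast_natAbs hu] at h1
    push_cast at h1
    have h2 := hQ e he
    have hf0 : (0 : ℤ) ≤ f := by positivity
    have h3 : (Polynomial.cyclotomic e ℤ).eval ((u : ℕ) : ℤ) * f ≤ Q * f := mul_le_mul_of_nonneg_right h2 hf0
    have h4 : Q * (2 * f) ≤ Q * u := mul_le_mul_of_nonneg_left hf' (by linarith)
    nlinarith

/-- transport to the model -/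
theorem transport {S : Type*} [Group S] [Finite S] [IsSimpleGroup S] (hna : ¬ IsMulCommutative S) {p m : ℕ}
    {X : Subgroup (MulAut S)} (H : Sit S p m X) {T : Type*} [Group T] (e : S ≃* T) :
    Finite T ∧ IsSimpleGroup T ∧ ¬ IsMulCommutative T ∧ ∃ Y : Subgroup (MulAut T), Sit T p m Y := by
  refine ⟨Finite.of_equiv S e.toEquiv, e.symm.isSimpleGroup, ?_, _, H.congr e⟩
  intro h
  apply hna
  refine ⟨⟨fun a b => ?_⟩⟩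
  apply e.injective
  rw [map_mul, map_mul]
  exact h.is_comm.comm _ _

/-- a polynomial with nonnegative coefficients -/
theorem poly_pos {L R Q : ℤ} (e : R - L = Q) (h : 0 < Q) : L < R := by linarith

theorem poly_nonneg {L R Q : ℤ} (e : R - L = Q) (h : 0 ≤ Q) : L ≤ R := by linarith

theorem eval_cyc8 (q : ℤ) : (Polynomial.cyclotomic 8 ℤ).eval q = q ^ 4 + 1 := by
  rw [show (8 : ℕ) = 2 ^ (2 + 1) by norm_num, Polynomial.cyclotomic_prime_pow_eq_geom_sum Nat.prime_two]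
  simp [Finset.sum_range_succ]; ring

theorem eval_cyc12 (q : ℤ) : (Polynomial.cyclotomic 12 ℤ).eval q = q ^ 4 - q ^ 2 + 1 := by
  have h := Polynomial.cyclotomic_expand_eq_cyclotomic Nat.prime_two (show 2 ∣ 6 by norm_num) ℤ
  rw [show 6 * 2 = 12 from rfl, Polynomial.cyclotomic_six] at h
  rw [← h, Polynomial.expand_eval]
  simp
  ring

theorem eval_cyc3 (q : ℤ) : (Polynomial.cyclotomic 3 ℤ).eval q = q ^ 2 + q + 1 := by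
  rw [Polynomial.cyclotomic_three]; simp

theorem eval_cyc6 (q : ℤ) : (Polynomial.cyclotomic 6 ℤ).eval q = q ^ 2 - q + 1 := by
  rw [Polynomial.cyclotomic_six]; simp

theorem eval_cyc20 (x : ℤ) : (Polynomial.cyclotomic 20 ℤ).eval x = x ^ 8 - x ^ 6 + x ^ 4 - x ^ 2 + 1 := by
  have h4 : ∀ y : ℤ, (Polynomial.cyclotomic 4 ℤ).eval y = y ^ 2 + 1 := by
    intro y
    rw [show (4 : ℕ) = 2 ^ (1 + 1) by norm_num, Polynomial.cyclotomic_prime_pow_eq_geom_sum Nat.prime_two]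
    simp [Finset.sum_range_succ]; ring
  have h := Cfsg.Agent.Lib.Zsigmondy.eval_cyclotomic_mul (r := 5) (m := 4) Nat.prime_five (by norm_num) x
  rw [h4, h4] at h
  have h0 : x ^ 2 + 1 ≠ 0 := by positivity
  apply mul_right_cancel₀ h0
  rw [show (20 : ℕ) = 4 * 5 by norm_num, ← h]
  ring

/-! ### G2 -/

theorem g2_pos3 {u : ℕ} (hu : 3 ≤ u) : 0 < (u : ℤ) ^ 2 + u + 1 := by
  obtain ⟨t, rfl⟩ : ∃ t : ℕ, u = t + 3 := ⟨u - 3, by omega⟩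
  push_cast
  exact poly_pos (Q := t ^ 2 + 7 * t + 13) (by ring) (by positivity)

theorem g2_P3 {u : ℕ} (hu : 3 ≤ u) : (u : ℤ) ^ 2 - u + 1 ≤ (u : ℤ) ^ 2 + u + 1 := by
  obtain ⟨t, rfl⟩ : ∃ t : ℕ, u = t + 3 := ⟨u - 3, by omega⟩
  push_cast
  exact poly_nonneg (Q := 2 * t + 6) (by ring) (by positivity)

theorem g2_Q3 {u : ℕ} (hu : 3 ≤ u) : (u : ℤ) ^ 2 + u + 1 ≤ (u : ℤ) ^ 2 + u + 1 := by
  obtain ⟨t, rfl⟩ : ∃ t : ℕ, u = t + 3 := ⟨u - 3, by omega⟩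
  push_cast
  exact poly_nonneg (Q := 0) (by ring) (by positivity)

theorem g2_pos6 {u : ℕ} (hu : 3 ≤ u) : 0 < (u : ℤ) ^ 2 - u + 1 := by
  obtain ⟨t, rfl⟩ : ∃ t : ℕ, u = t + 3 := ⟨u - 3, by omega⟩
  push_cast
  exact poly_pos (Q := t ^ 2 + 5 * t + 7) (by ring) (by positivity)

theorem g2_P6 {u : ℕ} (hu : 3 ≤ u) : (u : ℤ) ^ 2 - u + 1 ≤ (u : ℤ) ^ 2 - u + 1 := by
  obtain ⟨t, rfl⟩ : ∃ t : ℕ, u = t + 3 := ⟨u - 3, by omega⟩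
  push_cast
  exact poly_nonneg (Q := 0) (by ring) (by positivity)

theorem g2_Q6 {u : ℕ} (hu : 3 ≤ u) : (u : ℤ) ^ 2 - u + 1 ≤ (u : ℤ) ^ 2 + u + 1 := by
  obtain ⟨t, rfl⟩ : ∃ t : ℕ, u = t + 3 := ⟨u - 3, by omega⟩
  push_cast
  exact poly_nonneg (Q := 2 * t + 6) (by ring) (by positivity)

theorem g2_num {u : ℕ} (hu : 3 ≤ u) : (u : ℤ) * ((u : ℤ) ^ 2 + u + 1) < ((u : ℤ) ^ 2 - u + 1) ^ 2 - 1 := by
  obtain ⟨t, rfl⟩ : ∃ t : ℕ, u = t + 3 := ⟨u - 3, by omega⟩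
  push_cast
  exact poly_pos (Q := t ^ 4 + 9 * t ^ 3 + 29 * t ^ 2 + 36 * t + 9) (by ring) (by positivity)

theorem g2_P0 {u : ℕ} (hu : 3 ≤ u) : 0 ≤ (u : ℤ) ^ 2 - u + 1 := by
  obtain ⟨t, rfl⟩ : ∃ t : ℕ, u = t + 3 := ⟨u - 3, by omega⟩
  push_cast
  exact poly_nonneg (Q := t ^ 2 + 5 * t + 7) (by ring) (by positivity)

theorem g2_Q1 {u : ℕ} (hu : 3 ≤ u) : 1 ≤ (u : ℤ) ^ 2 + u + 1 := by
  obtain ⟨t, rfl⟩ : ∃ t : ℕ, u = t + 3 := ⟨u - 3, by omega⟩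
  push_cast
  exact poly_nonneg (Q := t ^ 2 + 7 * t + 12) (by ring) (by positivity)

/-- **G2(u)** -/
theorem row_g2 {S : Type*} [Group S] [Finite S] [IsSimpleGroup S] (hna : ¬ IsMulCommutative S) {p m : ℕ}
    {X : Subgroup (MulAut S)} (H : Sit S p m X) {F : Type} [Field F] [Fintype F] (hq : 3 ≤ Fintype.card F) 
    (e : S ≃* ↥(chevG2.group F)) (adj3 : AdjThree ↥(chevG2.group F) (Nat.card F) [3, 6])
    (h12 : ∃ g : ↥(chevG2.group F), 12 ∣ orderOf g) (h3 : ∃ P : Sylow 3 ↥(chevG2.group F), ¬ IsCyclic P) : False := by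
  obtain ⟨_, _, hnaT, Y, HT⟩ := transport hna H e
  obtain ⟨r, _, _, f, hf, hr⟩ := exists_charP F
  have hF : Fintype.card F = r ^ f := by rw [← Nat.card_eq_fintype_card]; exact hr
  have hout := Cfsg.Agent.S2121.result r f hF (by rw [← hF]; exact hq)
  have hout2 : Nat.card (Cfsg.Out ↥(chevG2.group F)) ∣ 2 * f := by
    rw [hout]
    split_ifs
    · exact dvd_rfl
    · exact Dvd.intro_left _ rfl
  have hg := gen g2T inv_G2 one_ne_zero hnaT HT (L := [3, 6])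
    (by
      intro e he
      simp only [List.mem_cons, List.not_mem_nil, or_false] at he
      rcases he with rfl | rfl <;> exact ⟨by decide, by norm_num⟩)
    adj3 h12 h3 hf hout2
  have hf2 := two_mul_le hf (Fact.out : r.Prime).two_le hr
  have hiso : ∀ g : ↥(chevG2.group F), p ∣ orderOf g → orderOf g = p := fun g hg => HT.iso hnaT hg
  have hod := (near_G2 F HT.hp HT.dvd).resolve_left (not_near HT.hp2 hiso)
  have hp3 := HT.three_le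
  have hk : 3 ≤ Nat.card F := by rw [Nat.card_eq_fintype_card]; exact hq
  have hP : ((Nat.card F : ℕ) : ℤ) ^ 2 - ((Nat.card F : ℕ) : ℤ) + 1 ≤ p := by
    have hcop : p.Coprime (Nat.gcd 1 (Nat.card F - 1)) := by
      rw [Nat.gcd_one_left]; exact Nat.coprime_one_right _
    rcases hod with h | h
    · obtain ⟨c', hc1, hc2⟩ := torus_eq g2T inv_G2 one_ne_zero AdjG2.hA AdjG2.chain3 AdjG2.tor3_3 (F := F)
        HT.hp (by rw [pv3]; exact g2_pos3 hk) (dvd3 HT.hp h) hcop hiso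
      rw [Nat.gcd_one_left, Nat.dvd_one] at hc1
      rw [hc1, pv3, Nat.cast_one, mul_one] at hc2
      exact (g2_P3 hk).trans (le_of_eq hc2)
    · obtain ⟨c', hc1, hc2⟩ := torus_eq g2T inv_G2 one_ne_zero AdjG2.hA AdjG2.chain6 AdjG2.tor6_6 (F := F)
        HT.hp (by rw [pv6]; exact g2_pos6 hk) (dvd6 HT.hp h) hcop hiso
      rw [Nat.gcd_one_left, Nat.dvd_one] at hc1
      rw [hc1, pv6, Nat.cast_one, mul_one] at hc2
      exact (g2_P6 hk).trans (le_of_eq hc2)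
  refine gen_int (by omega) hf2 (by omega) hg hP (g2_P0 hk) (g2_Q1 hk) ?_ (g2_num hk)
  intro e he
  simp only [List.mem_cons, List.not_mem_nil, or_false] at he
  rcases he with rfl | rfl
  · exact (le_of_eq (eval_cyc3 _)).trans (g2_Q3 hk)
  · exact (le_of_eq (eval_cyc6 _)).trans (g2_Q6 hk)

/-! ### F4 -/

theorem f4_pos8 {u : ℕ} (hu : 2 ≤ u) : 0 < (u : ℤ) ^ 4 + 1 := by
  obtain ⟨t, rfl⟩ : ∃ t : ℕ, u = t + 2 := ⟨u - 2, by omega⟩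
  push_cast
  exact poly_pos (Q := t ^ 4 + 8 * t ^ 3 + 24 * t ^ 2 + 32 * t + 17) (by ring) (by positivity)

theorem f4_P8 {u : ℕ} (hu : 2 ≤ u) : (u : ℤ) ^ 4 - u ^ 2 + 1 ≤ (u : ℤ) ^ 4 + 1 := by
  obtain ⟨t, rfl⟩ : ∃ t : ℕ, u = t + 2 := ⟨u - 2, by omega⟩
  push_cast
  exact poly_nonneg (Q := t ^ 2 + 4 * t + 4) (by ring) (by positivity)

theorem f4_Q8 {u : ℕ} (hu : 2 ≤ u) : (u : ℤ) ^ 4 + 1 ≤ (u : ℤ) ^ 4 + 1 := by
  obtain ⟨t, rfl⟩ : ∃ t : ℕ, u = t + 2 := ⟨u - 2, by omega⟩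
  push_cast
  exact poly_nonneg (Q := 0) (by ring) (by positivity)

theorem f4_pos12 {u : ℕ} (hu : 2 ≤ u) : 0 < (u : ℤ) ^ 4 - u ^ 2 + 1 := by
  obtain ⟨t, rfl⟩ : ∃ t : ℕ, u = t + 2 := ⟨u - 2, by omega⟩
  push_cast
  exact poly_pos (Q := t ^ 4 + 8 * t ^ 3 + 23 * t ^ 2 + 28 * t + 13) (by ring) (by positivity)

theorem f4_P12 {u : ℕ} (hu : 2 ≤ u) : (u : ℤ) ^ 4 - u ^ 2 + 1 ≤ (u : ℤ) ^ 4 - u ^ 2 + 1 := by
  obtain ⟨t, rfl⟩ : ∃ t : ℕ, u = t + 2 := ⟨u - 2, by omega⟩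
  push_cast
  exact poly_nonneg (Q := 0) (by ring) (by positivity)

theorem f4_Q12 {u : ℕ} (hu : 2 ≤ u) : (u : ℤ) ^ 4 - u ^ 2 + 1 ≤ (u : ℤ) ^ 4 + 1 := by
  obtain ⟨t, rfl⟩ : ∃ t : ℕ, u = t + 2 := ⟨u - 2, by omega⟩
  push_cast
  exact poly_nonneg (Q := t ^ 2 + 4 * t + 4) (by ring) (by positivity)

theorem f4_num {u : ℕ} (hu : 2 ≤ u) : (u : ℤ) * ((u : ℤ) ^ 4 + 1) < ((u : ℤ) ^ 4 - u ^ 2 + 1) ^ 2 - 1 := by
  obtain ⟨t, rfl⟩ : ∃ t : ℕ, u = t + 2 := ⟨u - 2, by omega⟩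
  push_cast
  exact poly_pos (Q := t ^ 8 + 16 * t ^ 7 + 110 * t ^ 6 + 423 * t ^ 5 + 993 * t ^ 4 + 1456 * t ^ 3 + 1302 * t ^ 2 + 647 * t + 134) (by ring) (by positivity)

theorem f4_P0 {u : ℕ} (hu : 2 ≤ u) : 0 ≤ (u : ℤ) ^ 4 - u ^ 2 + 1 := by
  obtain ⟨t, rfl⟩ : ∃ t : ℕ, u = t + 2 := ⟨u - 2, by omega⟩
  push_cast
  exact poly_nonneg (Q := t ^ 4 + 8 * t ^ 3 + 23 * t ^ 2 + 28 * t + 13) (by ring) (by positivity)

theorem f4_Q1 {u : ℕ} (hu : 2 ≤ u) : 1 ≤ (u : ℤ) ^ 4 + 1 := by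
  obtain ⟨t, rfl⟩ : ∃ t : ℕ, u = t + 2 := ⟨u - 2, by omega⟩
  push_cast
  exact poly_nonneg (Q := t ^ 4 + 8 * t ^ 3 + 24 * t ^ 2 + 32 * t + 16) (by ring) (by positivity)

/-- **F4(u)** -/
theorem row_f4 {S : Type*} [Group S] [Finite S] [IsSimpleGroup S] (hna : ¬ IsMulCommutative S) {p m : ℕ}
    {X : Subgroup (MulAut S)} (H : Sit S p m X) {F : Type} [Field F] [Fintype F] 
    (e : S ≃* ↥(chevF4.group F)) (adj3 : AdjThree ↥(chevF4.group F) (Nat.card F) [8, 12])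
    (h12 : ∃ g : ↥(chevF4.group F), 12 ∣ orderOf g) (h3 : ∃ P : Sylow 3 ↥(chevF4.group F), ¬ IsCyclic P) : False := by
  obtain ⟨_, _, hnaT, Y, HT⟩ := transport hna H e
  obtain ⟨r, _, _, f, hf, hr⟩ := exists_charP F
  have hF : Fintype.card F = r ^ f := by rw [← Nat.card_eq_fintype_card]; exact hr
  have hout := Cfsg.Agent.S2122.result r f hF
  have hout2 : Nat.card (Cfsg.Out ↥(chevF4.group F)) ∣ 2 * f := by
    rw [hout]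
    exact Nat.mul_dvd_mul_right (Nat.gcd_dvd_left _ _) _
  have hg := gen f4T inv_F4 one_ne_zero hnaT HT (L := [8, 12])
    (by
      intro e he
      simp only [List.mem_cons, List.not_mem_nil, or_false] at he
      rcases he with rfl | rfl <;> exact ⟨by decide, by norm_num⟩)
    adj3 h12 h3 hf hout2
  have hf2 := two_mul_le hf (Fact.out : r.Prime).two_le hr
  have hiso : ∀ g : ↥(chevF4.group F), p ∣ orderOf g → orderOf g = p := fun g hg => HT.iso hnaT hg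
  have hod := (near_F4 F HT.hp HT.dvd).resolve_left (not_near HT.hp2 hiso)
  have hp3 := HT.three_le
  have hk : 2 ≤ Nat.card F := Finite.one_lt_card
  have hP : ((Nat.card F : ℕ) : ℤ) ^ 4 - ((Nat.card F : ℕ) : ℤ) ^ 2 + 1 ≤ p := by
    have hcop : p.Coprime (Nat.gcd 1 (Nat.card F - 1)) := by
      rw [Nat.gcd_one_left]; exact Nat.coprime_one_right _
    rcases hod with h | h
    · obtain ⟨c', hc1, hc2⟩ := torus_eq f4T inv_F4 one_ne_zero AdjF4.hA AdjF4.chain8 AdjF4.tor8_8 (F := F)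
        HT.hp (by rw [pv8]; exact f4_pos8 hk) (dvd8 HT.hp h) hcop hiso
      rw [Nat.gcd_one_left, Nat.dvd_one] at hc1
      rw [hc1, pv8, Nat.cast_one, mul_one] at hc2
      exact (f4_P8 hk).trans (le_of_eq hc2)
    · obtain ⟨c', hc1, hc2⟩ := torus_eq f4T inv_F4 one_ne_zero AdjF4.hA AdjF4.chain12 AdjF4.tor12_12 (F := F)
        HT.hp (by rw [pv12]; exact f4_pos12 hk) (dvd12 HT.hp h) hcop hiso
      rw [Nat.gcd_one_left, Nat.dvd_one] at hc1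
      rw [hc1, pv12, Nat.cast_one, mul_one] at hc2
      exact (f4_P12 hk).trans (le_of_eq hc2)
  refine gen_int (by omega) hf2 (by omega) hg hP (f4_P0 hk) (f4_Q1 hk) ?_ (f4_num hk)
  intro e he
  simp only [List.mem_cons, List.not_mem_nil, or_false] at he
  rcases he with rfl | rfl
  · exact (le_of_eq (eval_cyc8 _)).trans (f4_Q8 hk)
  · exact (le_of_eq (eval_cyc12 _)).trans (f4_Q12 hk)

/-! ### E8 -/

theorem e8_pos15 {u : ℕ} (hu : 2 ≤ u) : 0 < (u : ℤ) ^ 8 - u ^ 7 + u ^ 5 - u ^ 4 + u ^ 3 - u + 1 := by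
  obtain ⟨t, rfl⟩ : ∃ t : ℕ, u = t + 2 := ⟨u - 2, by omega⟩
  push_cast
  exact poly_pos (Q := t ^ 8 + 15 * t ^ 7 + 98 * t ^ 6 + 365 * t ^ 5 + 849 * t ^ 4 + 1265 * t ^ 3 + 1182 * t ^ 2 + 635 * t + 151) (by ring) (by positivity)

theorem e8_P15 {u : ℕ} (hu : 2 ≤ u) : (u : ℤ) ^ 8 - u ^ 7 ≤ (u : ℤ) ^ 8 - u ^ 7 + u ^ 5 - u ^ 4 + u ^ 3 - u + 1 := by
  obtain ⟨t, rfl⟩ : ∃ t : ℕ, u = t + 2 := ⟨u - 2, by omega⟩
  push_cast
  exact poly_nonneg (Q := t ^ 5 + 9 * t ^ 4 + 33 * t ^ 3 + 62 * t ^ 2 + 59 * t + 23) (by ring) (by positivity)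

theorem e8_Q15 {u : ℕ} (hu : 2 ≤ u) : (u : ℤ) ^ 8 - u ^ 7 + u ^ 5 - u ^ 4 + u ^ 3 - u + 1 ≤ 2 * (u : ℤ) ^ 8 := by
  obtain ⟨t, rfl⟩ : ∃ t : ℕ, u = t + 2 := ⟨u - 2, by omega⟩
  push_cast
  exact poly_nonneg (Q := t ^ 8 + 17 * t ^ 7 + 126 * t ^ 6 + 531 * t ^ 5 + 1391 * t ^ 4 + 2319 * t ^ 3 + 2402 * t ^ 2 + 1413 * t + 361) (by ring) (by positivity)

theorem e8_pos20 {u : ℕ} (hu : 2 ≤ u) : 0 < (u : ℤ) ^ 8 - u ^ 6 + u ^ 4 - u ^ 2 + 1 := by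
  obtain ⟨t, rfl⟩ : ∃ t : ℕ, u = t + 2 := ⟨u - 2, by omega⟩
  push_cast
  exact poly_pos (Q := t ^ 8 + 16 * t ^ 7 + 111 * t ^ 6 + 436 * t ^ 5 + 1061 * t ^ 4 + 1640 * t ^ 3 + 1575 * t ^ 2 + 860 * t + 205) (by ring) (by positivity)

theorem e8_P20 {u : ℕ} (hu : 2 ≤ u) : (u : ℤ) ^ 8 - u ^ 7 ≤ (u : ℤ) ^ 8 - u ^ 6 + u ^ 4 - u ^ 2 + 1 := by
  obtain ⟨t, rfl⟩ : ∃ t : ℕ, u = t + 2 := ⟨u - 2, by omega⟩
  push_cast
  exact poly_nonneg (Q := t ^ 7 + 13 * t ^ 6 + 72 * t ^ 5 + 221 * t ^ 4 + 408 * t ^ 3 + 455 * t ^ 2 + 284 * t + 77) (by ring) (by positivity)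

theorem e8_Q20 {u : ℕ} (hu : 2 ≤ u) : (u : ℤ) ^ 8 - u ^ 6 + u ^ 4 - u ^ 2 + 1 ≤ 2 * (u : ℤ) ^ 8 := by
  obtain ⟨t, rfl⟩ : ∃ t : ℕ, u = t + 2 := ⟨u - 2, by omega⟩
  push_cast
  exact poly_nonneg (Q := t ^ 8 + 16 * t ^ 7 + 113 * t ^ 6 + 460 * t ^ 5 + 1179 * t ^ 4 + 1944 * t ^ 3 + 2009 * t ^ 2 + 1188 * t + 307) (by ring) (by positivity)

theorem e8_pos24 {u : ℕ} (hu : 2 ≤ u) : 0 < (u : ℤ) ^ 8 - u ^ 4 + 1 := by
  obtain ⟨t, rfl⟩ : ∃ t : ℕ, u = t + 2 := ⟨u - 2, by omega⟩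
  push_cast
  exact poly_pos (Q := t ^ 8 + 16 * t ^ 7 + 112 * t ^ 6 + 448 * t ^ 5 + 1119 * t ^ 4 + 1784 * t ^ 3 + 1768 * t ^ 2 + 992 * t + 241) (by ring) (by positivity)

theorem e8_P24 {u : ℕ} (hu : 2 ≤ u) : (u : ℤ) ^ 8 - u ^ 7 ≤ (u : ℤ) ^ 8 - u ^ 4 + 1 := by
  obtain ⟨t, rfl⟩ : ∃ t : ℕ, u = t + 2 := ⟨u - 2, by omega⟩
  push_cast
  exact poly_nonneg (Q := t ^ 7 + 14 * t ^ 6 + 84 * t ^ 5 + 279 * t ^ 4 + 552 * t ^ 3 + 648 * t ^ 2 + 416 * t + 113) (by ring) (by positivity)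

theorem e8_Q24 {u : ℕ} (hu : 2 ≤ u) : (u : ℤ) ^ 8 - u ^ 4 + 1 ≤ 2 * (u : ℤ) ^ 8 := by
  obtain ⟨t, rfl⟩ : ∃ t : ℕ, u = t + 2 := ⟨u - 2, by omega⟩
  push_cast
  exact poly_nonneg (Q := t ^ 8 + 16 * t ^ 7 + 112 * t ^ 6 + 448 * t ^ 5 + 1121 * t ^ 4 + 1800 * t ^ 3 + 1816 * t ^ 2 + 1056 * t + 271) (by ring) (by positivity)

theorem e8_pos30 {u : ℕ} (hu : 2 ≤ u) : 0 < (u : ℤ) ^ 8 + u ^ 7 - u ^ 5 - u ^ 4 - u ^ 3 + u + 1 := by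
  obtain ⟨t, rfl⟩ : ∃ t : ℕ, u = t + 2 := ⟨u - 2, by omega⟩
  push_cast
  exact poly_pos (Q := t ^ 8 + 17 * t ^ 7 + 126 * t ^ 6 + 531 * t ^ 5 + 1389 * t ^ 4 + 2303 * t ^ 3 + 2354 * t ^ 2 + 1349 * t + 331) (by ring) (by positivity)

theorem e8_P30 {u : ℕ} (hu : 2 ≤ u) : (u : ℤ) ^ 8 - u ^ 7 ≤ (u : ℤ) ^ 8 + u ^ 7 - u ^ 5 - u ^ 4 - u ^ 3 + u + 1 := by
  obtain ⟨t, rfl⟩ : ∃ t : ℕ, u = t + 2 := ⟨u - 2, by omega⟩
  push_cast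
  exact poly_nonneg (Q := 2 * t ^ 7 + 28 * t ^ 6 + 167 * t ^ 5 + 549 * t ^ 4 + 1071 * t ^ 3 + 1234 * t ^ 2 + 773 * t + 203) (by ring) (by positivity)

theorem e8_Q30 {u : ℕ} (hu : 2 ≤ u) : (u : ℤ) ^ 8 + u ^ 7 - u ^ 5 - u ^ 4 - u ^ 3 + u + 1 ≤ 2 * (u : ℤ) ^ 8 := by
  obtain ⟨t, rfl⟩ : ∃ t : ℕ, u = t + 2 := ⟨u - 2, by omega⟩
  push_cast
  exact poly_nonneg (Q := t ^ 8 + 15 * t ^ 7 + 98 * t ^ 6 + 365 * t ^ 5 + 851 * t ^ 4 + 1281 * t ^ 3 + 1230 * t ^ 2 + 699 * t + 181) (by ring) (by positivity)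

theorem e8_num {u : ℕ} (hu : 2 ≤ u) : (u : ℤ) * (2 * (u : ℤ) ^ 8) < ((u : ℤ) ^ 8 - u ^ 7) ^ 2 - 1 := by
  obtain ⟨t, rfl⟩ : ∃ t : ℕ, u = t + 2 := ⟨u - 2, by omega⟩
  push_cast
  exact poly_pos (Q := t ^ 16 + 30 * t ^ 15 + 421 * t ^ 14 + 3668 * t ^ 13 + 22204 * t ^ 12 + 99008 * t ^ 11 + 336336 * t ^ 10 + 887742 * t ^ 9 + 1839516 * t ^ 8 + 3001568 * t ^ 7 + 3842496 * t ^ 6 + 3816512 * t ^ 5 + 2880640 * t ^ 4 + 1594880 * t ^ 3 + 609280 * t ^ 2 + 142848 * t + 15359) (by ring) (by positivity)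

theorem e8_P0 {u : ℕ} (hu : 2 ≤ u) : 0 ≤ (u : ℤ) ^ 8 - u ^ 7 := by
  obtain ⟨t, rfl⟩ : ∃ t : ℕ, u = t + 2 := ⟨u - 2, by omega⟩
  push_cast
  exact poly_nonneg (Q := t ^ 8 + 15 * t ^ 7 + 98 * t ^ 6 + 364 * t ^ 5 + 840 * t ^ 4 + 1232 * t ^ 3 + 1120 * t ^ 2 + 576 * t + 128) (by ring) (by positivity)

theorem e8_Q1 {u : ℕ} (hu : 2 ≤ u) : 1 ≤ 2 * (u : ℤ) ^ 8 := by
  obtain ⟨t, rfl⟩ : ∃ t : ℕ, u = t + 2 := ⟨u - 2, by omega⟩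
  push_cast
  exact poly_nonneg (Q := 2 * t ^ 8 + 32 * t ^ 7 + 224 * t ^ 6 + 896 * t ^ 5 + 2240 * t ^ 4 + 3584 * t ^ 3 + 3584 * t ^ 2 + 2048 * t + 511) (by ring) (by positivity)

/-- **E8(u)** -/
theorem row_e8 {S : Type*} [Group S] [Finite S] [IsSimpleGroup S] (hna : ¬ IsMulCommutative S) {p m : ℕ}
    {X : Subgroup (MulAut S)} (H : Sit S p m X) {F : Type} [Field F] [Fintype F] 
    (e : S ≃* ↥(chevE8.group F)) (adj3 : AdjThree ↥(chevE8.group F) (Nat.card F) [15, 20, 24, 30])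
    (h12 : ∃ g : ↥(chevE8.group F), 12 ∣ orderOf g) (h3 : ∃ P : Sylow 3 ↥(chevE8.group F), ¬ IsCyclic P) : False := by
  obtain ⟨_, _, hnaT, Y, HT⟩ := transport hna H e
  obtain ⟨r, _, _, f, hf, hr⟩ := exists_charP F
  have hF : Fintype.card F = r ^ f := by rw [← Nat.card_eq_fintype_card]; exact hr
  have hout := Cfsg.Agent.S2125.result r f hF
  have hout2 : Nat.card (Cfsg.Out ↥(chevE8.group F)) ∣ 2 * f := by
    rw [hout]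
    exact Dvd.intro_left _ rfl
  have hg := gen e8T inv_E8 one_ne_zero hnaT HT (L := [15, 20, 24, 30])
    (by
      intro e he
      simp only [List.mem_cons, List.not_mem_nil, or_false] at he
      rcases he with rfl | rfl | rfl | rfl <;> exact ⟨by decide, by norm_num⟩)
    adj3 h12 h3 hf hout2
  have hf2 := two_mul_le hf (Fact.out : r.Prime).two_le hr
  have hiso : ∀ g : ↥(chevE8.group F), p ∣ orderOf g → orderOf g = p := fun g hg => HT.iso hnaT hg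
  have hod := (near_E8 F HT.hp HT.dvd).resolve_left (not_near HT.hp2 hiso)
  have hp3 := HT.three_le
  have hk : 2 ≤ Nat.card F := Finite.one_lt_card
  have hP : ((Nat.card F : ℕ) : ℤ) ^ 8 - ((Nat.card F : ℕ) : ℤ) ^ 7 ≤ p := by
    have hcop : p.Coprime (Nat.gcd 1 (Nat.card F - 1)) := by
      rw [Nat.gcd_one_left]; exact Nat.coprime_one_right _
    rcases hod with h | h | h | h
    · obtain ⟨c', hc1, hc2⟩ := torus_eq e8T inv_E8 one_ne_zero AdjE8.hA AdjE8.chain15 AdjE8.tor15_15 (F := F)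
        HT.hp (by rw [pv15]; exact e8_pos15 hk) (dvd15 HT.hp h) hcop hiso
      rw [Nat.gcd_one_left, Nat.dvd_one] at hc1
      rw [hc1, pv15, Nat.cast_one, mul_one] at hc2
      exact (e8_P15 hk).trans (le_of_eq hc2)
    · obtain ⟨c', hc1, hc2⟩ := torus_eq e8T inv_E8 one_ne_zero AdjE8.hA AdjE8.chain20 AdjE8.tor20_20 (F := F)
        HT.hp (by rw [pv20]; exact e8_pos20 hk) (dvd20 HT.hp h) hcop hiso
      rw [Nat.gcd_one_left, Nat.dvd_one] at hc1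
      rw [hc1, pv20, Nat.cast_one, mul_one] at hc2
      exact (e8_P20 hk).trans (le_of_eq hc2)
    · obtain ⟨c', hc1, hc2⟩ := torus_eq e8T inv_E8 one_ne_zero AdjE8.hA AdjE8.chain24 AdjE8.tor24_24 (F := F)
        HT.hp (by rw [pv24]; exact e8_pos24 hk) (dvd24 HT.hp h) hcop hiso
      rw [Nat.gcd_one_left, Nat.dvd_one] at hc1
      rw [hc1, pv24, Nat.cast_one, mul_one] at hc2
      exact (e8_P24 hk).trans (le_of_eq hc2)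
    · obtain ⟨c', hc1, hc2⟩ := torus_eq e8T inv_E8 one_ne_zero AdjE8.hA AdjE8.chain30 AdjE8.tor30_30 (F := F)
        HT.hp (by rw [pv30]; exact e8_pos30 hk) (dvd30 HT.hp h) hcop hiso
      rw [Nat.gcd_one_left, Nat.dvd_one] at hc1
      rw [hc1, pv30, Nat.cast_one, mul_one] at hc2
      exact (e8_P30 hk).trans (le_of_eq hc2)
  refine gen_int (by omega) hf2 (by omega) hg hP (e8_P0 hk) (e8_Q1 hk) ?_ (e8_num hk)
  intro e he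
  simp only [List.mem_cons, List.not_mem_nil, or_false] at he
  rcases he with rfl | rfl | rfl | rfl
  · exact (le_of_eq (Cfsg.Agent.H416.Arith.eval_15 _)).trans (e8_Q15 hk)
  · exact (le_of_eq (eval_cyc20 _)).trans (e8_Q20 hk)
  · exact (le_of_eq (Cfsg.Agent.H416.Arith.eval_24 _)).trans (e8_Q24 hk)
  · exact (le_of_eq (Cfsg.Agent.H416.Arith.eval_30 _)).trans (e8_Q30 hk)

end Cfsg.Agent.H107.PglExc
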