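import Mathlib
import Cfsg.Agent.ClassicalGeometry.SympBasic

/-!
Sets of vectors of a symplectic space that are closed under adding non-orthogonal members
(the transvection vectors of a group generated by transvections).
-/

set_option autoImplicit false

namespace Cfsg.Agent.H107.SpGraph

open Cfsg.Agent.ClassicalGeometry.SympBasic

variable {n : ℕ} {K : Type*} [Field K]

local notation "⟪" u ", " v "⟫" => Cfsg.sympForm n K u v

/-- A set of vectors closed under nonzero scalars and under adding non-orthogonal vectors. -/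
structure Clo (D : Set (Fin n ⊕ Fin n → K)) : Prop where
  zero : (0 : Fin n ⊕ Fin n → K) ∉ D
  smul : ∀ c : K, c ≠ 0 → ∀ v ∈ D, c • v ∈ D
  add : ∀ u ∈ D, ∀ v ∈ D, ⟪u, v⟫ ≠ 0 → u + v ∈ D

variable {D : Set (Fin n ⊕ Fin n → K)}

theorem ne_swap {u v : Fin n ⊕ Fin n → K} : ⟪u, v⟫ ≠ 0 ↔ ⟪v, u⟫ ≠ 0 := by
  rw [sympForm_swap u v, neg_ne_zero]

theorem eq_swap {u v : Fin n ⊕ Fin n → K} : ⟪u, v⟫ = 0 ↔ ⟪v, u⟫ = 0 := by
  rw [sympForm_swap u v, neg_eq_zero]

theorem Clo.neg (hD : Clo D) {v : Fin n ⊕ Fin n → K} (hv : v ∈ D) : -v ∈ D := by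
  have := hD.smul (-1) (neg_ne_zero.2 one_ne_zero) v hv
  rwa [neg_one_smul] at this

theorem Clo.sub (hD : Clo D) {u v : Fin n ⊕ Fin n → K} (hu : u ∈ D) (hv : v ∈ D)
    (h : ⟪u, v⟫ ≠ 0) : u - v ∈ D := by
  rw [sub_eq_add_neg]
  refine hD.add u hu _ (hD.neg hv) ?_
  rw [sympForm_neg_right]
  exact neg_ne_zero.2 h

/-- having a common neighbour in `D` -/
def Link (D : Set (Fin n ⊕ Fin n → K)) (u v : Fin n ⊕ Fin n → K) : Prop :=
  ∃ e ∈ D, ⟪u, e⟫ ≠ 0 ∧ ⟪v, e⟫ ≠ 0

theorem Link.symm {u v : Fin n ⊕ Fin n → K} (h : Link D u v) : Link D v u := by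
  obtain ⟨e, he, h1, h2⟩ := h
  exact ⟨e, he, h2, h1⟩

theorem Clo.link (hD : Clo D) {u v : Fin n ⊕ Fin n → K} (hu : u ∈ D) (hv : v ∈ D)
    (h : ⟪u, v⟫ ≠ 0) : Link D u v := by
  refine ⟨u + v, hD.add u hu v hv h, ?_, ?_⟩
  · rwa [sympForm_add_right, sympForm_self, zero_add]
  · rw [sympForm_add_right, sympForm_self, add_zero]
    exact ne_swap.1 h

theorem Clo.link_adj (hD : Clo D) {u v x : Fin n ⊕ Fin n → K} (h : Link D u v)
    (hv : v ∈ D) (hvx : ⟪v, x⟫ ≠ 0) : Link D u x := by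
  obtain ⟨e, he, h1, h2⟩ := h
  by_cases huv : ⟪u, v⟫ = 0
  · by_cases hex : ⟪x, e⟫ = 0
    · refine ⟨v + e, hD.add v hv e he h2, ?_, ?_⟩
      · rwa [sympForm_add_right, huv, zero_add]
      · rw [sympForm_add_right, hex, add_zero]
        exact ne_swap.1 hvx
    · exact ⟨e, he, h1, hex⟩
  · exact ⟨v, hv, huv, ne_swap.1 hvx⟩

theorem Clo.link_trans (hD : Clo D) {u v x : Fin n ⊕ Fin n → K} (h1 : Link D u v)
    (h2 : Link D v x) (hv : v ∈ D) : Link D u x := by
  obtain ⟨e, he, h3, h4⟩ := h2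
  exact hD.link_adj (hD.link_adj h1 hv h3) he (ne_swap.1 h4)

/-- the component of `a` -/
def Nb (D : Set (Fin n ⊕ Fin n → K)) (a : Fin n ⊕ Fin n → K) : Set (Fin n ⊕ Fin n → K) :=
  {v | v ∈ D ∧ Link D a v}

theorem Clo.nb_adj (hD : Clo D) {a v x : Fin n ⊕ Fin n → K} (h : v ∈ Nb D a) (hx : x ∈ D)
    (hvx : ⟪v, x⟫ ≠ 0) : x ∈ Nb D a :=
  ⟨hx, hD.link_adj h.2 h.1 hvx⟩

theorem Clo.nb_add (hD : Clo D) {a v x : Fin n ⊕ Fin n → K} (h : v ∈ Nb D a) (hx : x ∈ Nb D a)
    (hvx : ⟪v, x⟫ ≠ 0) : v + x ∈ Nb D a :=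
  hD.nb_adj h (hD.add v h.1 x hx.1 hvx) (by rwa [sympForm_add_right, sympForm_self, zero_add])

theorem Clo.nb_smul (hD : Clo D) {a v : Fin n ⊕ Fin n → K} (h : v ∈ Nb D a) {c : K} (hc : c ≠ 0) :
    c • v ∈ Nb D a := by
  refine ⟨hD.smul c hc v h.1, ?_⟩
  obtain ⟨e, he, h1, h2⟩ := h.2
  exact ⟨e, he, h1, by rw [sympForm_smul_left]; exact mul_ne_zero hc h2⟩

theorem Clo.nb_clo (hD : Clo D) (a : Fin n ⊕ Fin n → K) : Clo (Nb D a) where
  zero h := hD.zero h.1
  smul _ hc _ hv := hD.nb_smul hv hc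
  add _ hu _ hv h := hD.nb_add hu hv h

/-- the common neighbour can be taken in the component -/
theorem Clo.nb_link (hD : Clo D) {a v x : Fin n ⊕ Fin n → K} (ha : a ∈ D) (h : v ∈ Nb D a)
    (hx : x ∈ Nb D a) : Link (Nb D a) v x := by
  obtain ⟨e, he, h1, h2⟩ := hD.link_trans h.2.symm hx.2 ha
  exact ⟨e, hD.nb_adj h he h1, h1, h2⟩

/-- connected: any two members have a common neighbour -/
def Conn (D : Set (Fin n ⊕ Fin n → K)) : Prop := ∀ u ∈ D, ∀ v ∈ D, Link D u v

/-- nondegenerate: only zero is orthogonal to `D` -/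
def NonDeg (D : Set (Fin n ⊕ Fin n → K)) : Prop :=
  ∀ r : Fin n ⊕ Fin n → K, r ≠ 0 → ∃ f ∈ D, ⟪r, f⟫ ≠ 0

theorem Clo.nb_conn (hD : Clo D) {a : Fin n ⊕ Fin n → K} (ha : a ∈ D) : Conn (Nb D a) :=
  fun _ hu _ hv => hD.nb_link ha hu hv

/-- If the form has no radical on `D`, then `D` spans. -/
theorem nonDeg_of_span {S : Set (Fin n ⊕ Fin n → K)} (hS : S ⊆ D)
    (hspan : Submodule.span K S = ⊤) : NonDeg D := by
  intro r hr
  by_contra hcon
  push Not at hcon
  refine hr (eq_zero_of_forall_sympForm_right fun w => ?_)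
  have hw : w ∈ Submodule.span K S := by rw [hspan]; trivial
  induction hw using Submodule.span_induction with
  | mem x hx => exact hcon x (hS hx)
  | zero => rw [sympForm_zero_right]
  | add x y _ _ hx hy => rw [sympForm_add_right, hx, hy, add_zero]
  | smul c x _ hx => rw [sympForm_smul_right, hx, mul_zero]

/-- A connected closed set which spans is everything, when the sum of two members is in the
set or zero. -/
theorem eq_top_of_add (hD : Clo D) (hadd : ∀ u ∈ D, ∀ v ∈ D, u + v ≠ 0 → u + v ∈ D)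
    (hspan : Submodule.span K D = ⊤) {v : Fin n ⊕ Fin n → K} (hv : v ≠ 0) : v ∈ D := by
  have hw : v ∈ Submodule.span K D := by rw [hspan]; trivial
  have key : v = 0 ∨ v ∈ D := by
    clear hv
    induction hw using Submodule.span_induction with
    | mem x hx => exact Or.inr hx
    | zero => exact Or.inl rfl
    | add x y _ _ hx hy =>
      rcases hx with rfl | hx
      · rwa [zero_add]
      · rcases hy with rfl | hy
        · rw [add_zero]; exact Or.inr hx
        · by_cases h : x + y = 0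
          · exact Or.inl h
          · exact Or.inr (hadd x hx y hy h)
    | smul c x _ hx =>
      rcases hx with rfl | hx
      · left; rw [smul_zero]
      · by_cases hc : c = 0
        · left; rw [hc, zero_smul]
        · right; exact hD.smul c hc x hx
  exact key.resolve_left hv

/-- The sum of two members, when it is not orthogonal to a common neighbour. -/
theorem Clo.add_of_nbr (hD : Clo D) {c d e : Fin n ⊕ Fin n → K} (hc : c ∈ D) (hd : d ∈ D)
    (he : e ∈ D) (hce : ⟪c, e⟫ ≠ 0) (hde : ⟪d, e⟫ ≠ 0) (hcd : ⟪c, d⟫ = 0)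
    (h : ⟪c + d, e⟫ ≠ 0) : c + d ∈ D := by
  have h1 := hD.add c hc e he hce
  have h2 := hD.sub hd he hde
  have h3 : ⟪c + e, d - e⟫ ≠ 0 := by
    rw [sympForm_add_left, sympForm_sub_right, sympForm_sub_right, sympForm_self, hcd,
      sympForm_swap e d]
    intro h4
    apply h
    rw [sympForm_add_left]
    linear_combination -h4
  have h4 := hD.add _ h1 _ h2 h3
  rwa [show c + e + (d - e) = c + d by abel] at h4

theorem Clo.add_of_rad (hD : Clo D) (hK : ∃ ν : K, ν ≠ 0 ∧ ν ≠ 1) {c d e f : Fin n ⊕ Fin n → K}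
    (hc : c ∈ D) (hd : d ∈ D)
    (he : e ∈ D) (hf : f ∈ D) (hce : ⟪c, e⟫ ≠ 0) (hde : ⟪d, e⟫ ≠ 0) (hcd : ⟪c, d⟫ = 0)
    (h : ⟪c + d, e⟫ = 0) (hr : ⟪c + d, f⟫ ≠ 0) (hcf : ⟪c, f⟫ ≠ 0) : c + d ∈ D := by
  suffices h1 : c + d + f ∈ D by
    have h2 : ⟪c + d + f, f⟫ ≠ 0 := by rwa [sympForm_add_left, sympForm_self, add_zero]
    have h3 := hD.sub h1 hf h2
    rwa [add_sub_cancel_right] at h3
  by_cases hdf : ⟪d, f⟫ = 0
  · obtain ⟨ν, hν0, hν1⟩ := hK
    have hν2 : (1 - ν) ≠ 0 := sub_ne_zero.2 (Ne.symm hν1)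
    have h1 : (1 - ν) • c + d ∈ D := by
      refine hD.add_of_nbr (hD.smul _ hν2 c hc) hd he ?_ hde ?_ ?_
      · rw [sympForm_smul_left]; exact mul_ne_zero hν2 hce
      · rw [sympForm_smul_left, hcd, mul_zero]
      · rw [sympForm_add_left, sympForm_smul_left]
        rw [sympForm_add_left] at h
        intro h4
        have : ν * ⟪c, e⟫ = 0 := by linear_combination h - h4
        exact mul_ne_zero hν0 hce this
    have h2 : f + ν • c ∈ D := by
      refine hD.add f hf _ (hD.smul ν hν0 c hc) ?_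
      rw [sympForm_smul_right]
      exact mul_ne_zero hν0 (ne_swap.1 hcf)
    have h3 := hD.add _ h1 _ h2 (by
      rw [sympForm_add_left, sympForm_add_right, sympForm_add_right, sympForm_smul_left,
        sympForm_smul_left, sympForm_smul_right, sympForm_smul_right, sympForm_self, hdf,
        sympForm_swap d c, hcd]
      intro h4
      have : (1 - ν) * ⟪c, f⟫ = 0 := by linear_combination h4
      exact mul_ne_zero hν2 hcf this)
    have h4 : (1 - ν) • c + d + (f + ν • c) = c + d + f := by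
      rw [sub_smul, one_smul]; abel
    rwa [h4] at h3
  · have h1 := hD.add c hc f hf hcf
    have h2 := hD.add d hd _ h1 (by rwa [sympForm_add_right, sympForm_swap d c, hcd, neg_zero,
      zero_add])
    rwa [show d + (c + f) = c + d + f by abel] at h2

/-- **The main closure lemma** for fields with more than two elements. -/
theorem Clo.mem_of_ne_zero (hD : Clo D) (hK : ∃ ν : K, ν ≠ 0 ∧ ν ≠ 1) (hconn : Conn D)
    (hspan : Submodule.span K D = ⊤) {v : Fin n ⊕ Fin n → K} (hv : v ≠ 0) : v ∈ D := by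
  refine eq_top_of_add hD ?_ hspan hv
  intro c hc d hd hne
  by_cases hcd : ⟪c, d⟫ = 0
  · obtain ⟨e, he, hce, hde⟩ := hconn c hc d hd
    by_cases h : ⟪c + d, e⟫ = 0
    · obtain ⟨f, hf, hr⟩ := nonDeg_of_span (D := D) le_rfl hspan _ hne
      by_cases hcf : ⟪c, f⟫ = 0
      · have hdf : ⟪d, f⟫ ≠ 0 := by
          intro h1
          exact hr (by rw [sympForm_add_left, hcf, h1, add_zero])
        rw [add_comm] at h hr ⊢
        exact hD.add_of_rad hK hd hc he hf hde hce (eq_swap.1 hcd) h hr hdf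
      · exact hD.add_of_rad hK hc hd he hf hce hde hcd h hr hcf
    · exact hD.add_of_nbr hc hd he hce hde hcd h
  · exact hD.add c hc d hd hcd

/-! ### The field with two elements -/

section Two

/-- Two distinct orthogonal members are separated. -/
theorem Clo.exists_sep (hD : Clo D) (hK : ∀ x : K, x = 0 ∨ x = 1) (hconn : Conn D)
    (hnd : NonDeg D) {a b : Fin n ⊕ Fin n → K} (ha : a ∈ D) (hb : b ∈ D) (hab : a ≠ b)
    (h0 : ⟪a, b⟫ = 0) : ∃ y ∈ D, ⟪a, y⟫ = 0 ∧ ⟪b, y⟫ = 1 := by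
  have h11 : (1 : K) + 1 = 0 := by
    rcases hK (1 + 1) with h | h
    · exact h
    · exact absurd h (by simp)
  have one : ∀ {x : K}, x ≠ 0 → x = 1 := fun {x} hx => (hK x).resolve_left hx
  have h2 : a + b ≠ 0 := by
    intro h
    apply hab
    have h3 : a = -b := eq_neg_of_add_eq_zero_left h
    rw [h3]
    funext i
    rw [Pi.neg_apply]
    linear_combination (-(b i)) * h11
  obtain ⟨f, hf, hr⟩ := hnd _ h2
  obtain ⟨c, hc, hac, hbc⟩ := hconn a ha b hb
  have hac := one hac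
  have hbc := one hbc
  have hr := one hr
  rw [sympForm_add_left] at hr
  rcases hK ⟪a, f⟫ with haf | haf
  · exact ⟨f, hf, haf, by rwa [haf, zero_add] at hr⟩
  · have hbf : ⟪b, f⟫ = 0 := by linear_combination hr - haf
    rcases hK ⟪f, c⟫ with hfc | hfc
    · refine ⟨f + a + c, ?_, ?_, ?_⟩
      · refine hD.add _ (hD.add f hf a ha ?_) c hc ?_
        · rw [ne_swap, haf]; exact one_ne_zero
        · rw [sympForm_add_left, hfc, zero_add, hac]; exact one_ne_zero
      · rw [sympForm_add_right, sympForm_add_right, sympForm_self, haf, hac, add_zero, h11]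
      · rw [sympForm_add_right, sympForm_add_right, hbf, hbc, sympForm_swap b a, h0]
        ring
    · refine ⟨f + c, hD.add f hf c hc (by rw [hfc]; exact one_ne_zero), ?_, ?_⟩
      · rw [sympForm_add_right, haf, hac, h11]
      · rw [sympForm_add_right, hbf, hbc, zero_add]

/-- goodness moves along edges -/
theorem Clo.good_step (hD : Clo D) {a b y : Fin n ⊕ Fin n → K}
    (hb : b ∈ D) (hy : y ∈ D) (hab : a + b ∈ D) (hay : ⟪a, y⟫ = 0) (hby : ⟪b, y⟫ = 1)
    (h0 : ⟪a, b⟫ = 0) : a + y ∈ D := by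
  have h1 : a + b + y ∈ D := hD.add _ hab y hy (by
    rw [sympForm_add_left, hay, hby, zero_add]; exact one_ne_zero)
  have h2 := hD.sub h1 hb (by
    rw [sympForm_add_left, sympForm_add_left, h0, sympForm_self, sympForm_swap y b, hby]
    intro h
    exact one_ne_zero (by linear_combination -h : (1 : K) = 0))
  rwa [show a + b + y - b = a + y by abel] at h2

theorem two_eq_zero (hK : ∀ x : K, x = 0 ∨ x = 1) : (1 : K) + 1 = 0 := by
  rcases hK (1 + 1) with h | h
  · exact h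
  · exact absurd h (by simp)

theorem swap_two (h11 : (1 : K) + 1 = 0) (u v : Fin n ⊕ Fin n → K) : ⟪u, v⟫ = ⟪v, u⟫ := by
  rw [sympForm_swap u v]
  linear_combination (-⟪v, u⟫) * h11

/-- a vertex seeing `b` and `x` but not `a` -/
theorem Clo.exists_third (hD : Clo D) (hK : ∀ x : K, x = 0 ∨ x = 1) (hconn : Conn D)
    (hnd : NonDeg D) {a b x : Fin n ⊕ Fin n → K} (ha : a ∈ D) (hb : b ∈ D) (hx : x ∈ D)
    (hab : a + b ∈ D) (hne : a ≠ b) (hax' : a ≠ x)
    (h0 : ⟪a, b⟫ = 0) (hax : ⟪a, x⟫ = 0) (hbx : ⟪b, x⟫ = 0) :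
    ∃ y ∈ D, ⟪a, y⟫ = 0 ∧ ⟪b, y⟫ = 1 ∧ ⟪x, y⟫ = 1 := by
  have h11 := two_eq_zero hK
  obtain ⟨y1, hy1, h1a, h1b⟩ := hD.exists_sep hK hconn hnd ha hb hne h0
  obtain ⟨y2, hy2, h2a, h2x⟩ := hD.exists_sep hK hconn hnd ha hx hax' hax
  rcases hK ⟪x, y1⟫ with h1x | h1x
  swap
  · exact ⟨y1, hy1, h1a, h1b, h1x⟩
  rcases hK ⟪b, y2⟫ with h2b | h2b
  swap
  · exact ⟨y2, hy2, h2a, h2b, h2x⟩
  rcases hK ⟪y1, y2⟫ with h12 | h12
  swap
  · refine ⟨y1 + y2, hD.add _ hy1 _ hy2 (by rw [h12]; exact one_ne_zero), ?_, ?_, ?_⟩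
    · rw [sympForm_add_right, h1a, h2a, add_zero]
    · rw [sympForm_add_right, h1b, h2b, add_zero]
    · rw [sympForm_add_right, h1x, h2x, zero_add]
  by_contra hno
  push Not at hno
  have one : ∀ {x : K}, x ≠ 0 → x = 1 := fun {x} hx => (hK x).resolve_left hx
  obtain ⟨c0, hc0, hbc0, hxc0⟩ := hconn b hb x hx
  have hbc0 := one hbc0
  have hxc0 := one hxc0
  have hac0 : ⟪a, c0⟫ = 1 := one fun h => hno c0 hc0 h hbc0 hxc0
  obtain ⟨c1, hc1, hbc1, hxc1, hac1, h1c1⟩ :
      ∃ c ∈ D, ⟪b, c⟫ = 1 ∧ ⟪x, c⟫ = 1 ∧ ⟪a, c⟫ = 1 ∧ ⟪y1, c⟫ = 1 := by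
    rcases hK ⟪y1, c0⟫ with h | h
    · refine ⟨c0 + b, hD.add _ hc0 _ hb (by rw [ne_swap, hbc0]; exact one_ne_zero), ?_, ?_, ?_, ?_⟩
      · rw [sympForm_add_right, sympForm_self, hbc0, add_zero]
      · rw [sympForm_add_right, hxc0, swap_two h11 x b, hbx, add_zero]
      · rw [sympForm_add_right, hac0, h0, add_zero]
      · rw [sympForm_add_right, h, swap_two h11 y1 b, h1b, zero_add]
    · exact ⟨c0, hc0, hbc0, hxc0, hac0, h⟩
  obtain ⟨c, hc, hbc, hxc, hac, h1c, h2c⟩ :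
      ∃ c ∈ D, ⟪b, c⟫ = 1 ∧ ⟪x, c⟫ = 1 ∧ ⟪a, c⟫ = 1 ∧ ⟪y1, c⟫ = 1 ∧ ⟪y2, c⟫ = 1 := by
    rcases hK ⟪y2, c1⟫ with h | h
    · refine ⟨c1 + x, hD.add _ hc1 _ hx (by rw [ne_swap, hxc1]; exact one_ne_zero),
        ?_, ?_, ?_, ?_, ?_⟩
      · rw [sympForm_add_right, hbx, hbc1, add_zero]
      · rw [sympForm_add_right, sympForm_self, hxc1, add_zero]
      · rw [sympForm_add_right, hac1, hax, add_zero]
      · rw [sympForm_add_right, h1c1, swap_two h11 y1 x, h1x, add_zero]
      · rw [sympForm_add_right, h, swap_two h11 y2 x, h2x, zero_add]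
    · exact ⟨c1, hc1, hbc1, hxc1, hac1, h1c1, h⟩
  have hp1 : c + y1 ∈ D := hD.add _ hc _ hy1 (by rw [ne_swap, h1c]; exact one_ne_zero)
  have hp2 : c + y2 ∈ D := hD.add _ hc _ hy2 (by rw [ne_swap, h2c]; exact one_ne_zero)
  have hq1 : c + y1 + (a + b) ∈ D := by
    refine hD.add _ hp1 _ hab ?_
    rw [sympForm_add_left, sympForm_add_right, sympForm_add_right, swap_two h11 c a, hac,
      swap_two h11 c b, hbc, swap_two h11 y1 a, h1a, swap_two h11 y1 b, h1b]
    intro h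
    exact one_ne_zero (by linear_combination h - h11 : (1 : K) = 0)
  have hq2 : c + y1 + (a + b) - a ∈ D := by
    refine hD.sub hq1 ha ?_
    rw [sympForm_add_left, sympForm_add_left, sympForm_add_left, sympForm_self, swap_two h11 c a,
      hac, swap_two h11 b a, h0, swap_two h11 y1 a, h1a, add_zero, add_zero, add_zero]
    exact one_ne_zero
  rw [show c + y1 + (a + b) - a = c + y1 + b by abel] at hq2
  have hy : c + y1 + b - (c + y2) ∈ D := by
    refine hD.sub hq2 hp2 ?_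
    rw [sympForm_add_left, sympForm_add_left, sympForm_add_right, sympForm_add_right,
      sympForm_add_right, sympForm_self, swap_two h11 c y2, h2c, h1c, h12, hbc, h2b]
    intro h
    exact one_ne_zero (by linear_combination h - h11 : (1 : K) = 0)
  rw [show c + y1 + b - (c + y2) = y1 + b - y2 by abel] at hy
  refine hno _ hy ?_ ?_ ?_
  · rw [sympForm_sub_right, sympForm_add_right, h1a, h0, h2a]; ring
  · rw [sympForm_sub_right, sympForm_add_right, h1b, sympForm_self, h2b]; ring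
  · rw [sympForm_sub_right, sympForm_add_right, h1x, swap_two h11 x b, hbx, h2x]
    linear_combination -h11

/-- `a` is perfect: adding an orthogonal member stays inside -/
def Perfect (D : Set (Fin n ⊕ Fin n → K)) (a : Fin n ⊕ Fin n → K) : Prop :=
  ∀ x ∈ D, ⟪a, x⟫ = 0 → a ≠ x → a + x ∈ D

theorem Clo.perfect_of_good (hD : Clo D) (hK : ∀ x : K, x = 0 ∨ x = 1) (hconn : Conn D)
    (hnd : NonDeg D) {a b : Fin n ⊕ Fin n → K} (ha : a ∈ D) (hb : b ∈ D)
    (hab : a + b ∈ D) (hne : a ≠ b) (h0 : ⟪a, b⟫ = 0) : Perfect D a := by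
  intro x hx hax hne'
  rcases hK ⟪b, x⟫ with hbx | hbx
  · obtain ⟨y, hy, hay, hby, hxy⟩ :=
      hD.exists_third hK hconn hnd ha hb hx hab hne hne' h0 hax hbx
    have h1 := hD.good_step hb hy hab hay hby h0
    exact hD.good_step hy hx h1 hax (by rw [swap_two (two_eq_zero hK), hxy]) hay
  · exact hD.good_step hb hx hab hax hbx h0

theorem add_self_two (hK : ∀ x : K, x = 0 ∨ x = 1) (v : Fin n ⊕ Fin n → K) : v + v = 0 := by
  funext i
  have h11 := two_eq_zero hK
  rw [Pi.add_apply, Pi.zero_apply]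
  linear_combination (v i) * h11

theorem Clo.perfect_adj (hD : Clo D) (hK : ∀ x : K, x = 0 ∨ x = 1) {a a' : Fin n ⊕ Fin n → K}
    (h : Perfect D a) (ha : a ∈ D) (ha' : a' ∈ D) (haa : ⟪a, a'⟫ ≠ 0) : Perfect D a' := by
  have h11 := two_eq_zero hK
  have haa1 : ⟪a, a'⟫ = 1 := (hK _).resolve_left haa
  intro x hx hax hne
  have hv : a + a' ∈ D := hD.add _ ha _ ha' haa
  rcases hK ⟪a, x⟫ with h1 | h1
  · have hax' : a ≠ x := by
      rintro rfl
      rw [swap_two h11, haa1] at hax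
      exact one_ne_zero hax
    have h2 := h x hx h1 hax'
    have h3 := hD.sub h2 hv (by
      rw [sympForm_add_left, sympForm_add_right, sympForm_add_right, sympForm_self, haa1,
        swap_two h11 x a, h1, swap_two h11 x a', hax, zero_add, add_zero, add_zero]
      exact one_ne_zero)
    have h4 := hD.neg h3
    rw [show -(a + x - (a + a')) = a' - x by abel] at h4
    rwa [show a' - x = a' + x by
      rw [sub_eq_iff_eq_add, add_assoc, add_self_two hK, add_zero]] at h4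
  · have h2 : x + (a + a') ∈ D := hD.add _ hx _ hv (by
      rw [sympForm_add_right, swap_two h11 x a, h1, swap_two h11 x a', hax, add_zero]
      exact one_ne_zero)
    have h3 := h _ h2 (by
      rw [sympForm_add_right, sympForm_add_right, sympForm_self, h1, haa1, zero_add, h11]) (by
      intro h4
      apply hne
      have h5 : a = a + (a' + x) := by
        rw [show a + (a' + x) = x + (a + a') by abel]; exact h4
      have h6 : a' + x = 0 := (left_eq_add.1 h5)
      have h7 : a' = -x := eq_neg_of_add_eq_zero_left h6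
      rw [h7, neg_eq_iff_add_eq_zero, add_self_two hK])
    rwa [show a + (x + (a + a')) = (a + a) + (a' + x) by abel, add_self_two hK, zero_add] at h3

/-- **The main closure lemma** for the field with two elements. -/
theorem Clo.mem_of_ne_zero_two (hD : Clo D) (hK : ∀ x : K, x = 0 ∨ x = 1) (hconn : Conn D)
    (hspan : Submodule.span K D = ⊤) {a b : Fin n ⊕ Fin n → K} (ha : a ∈ D) (hb : b ∈ D)
    (hab : a + b ∈ D) (hne : a ≠ b) (h0 : ⟪a, b⟫ = 0) {v : Fin n ⊕ Fin n → K} (hv : v ≠ 0) :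
    v ∈ D := by
  have hnd := nonDeg_of_span (D := D) le_rfl hspan
  have hpa := hD.perfect_of_good hK hconn hnd ha hb hab hne h0
  refine eq_top_of_add hD ?_ hspan hv
  intro c hc d hd hne'
  by_cases hcd : ⟪c, d⟫ = 0
  · obtain ⟨e, he, hae, hce⟩ := hconn a ha c hc
    have h1 := hD.perfect_adj hK (hD.perfect_adj hK hpa ha he hae) he hc (ne_swap.1 hce)
    refine h1 d hd hcd ?_
    rintro rfl
    exact hne' (add_self_two hK c)
  · exact hD.add c hc d hd hcd

end Two

end Cfsg.Agent.H107.SpGraph
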