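import Mathlib
import Cfsg.Agent.ClassicalGeometry.SympBasic
import Cfsg.Agent.H107.SpTr
import Cfsg.Agent.H107.Comp

/-!
A regular unipotent element of the symplectic group with a cyclic vector that is not orthogonal
to its image.
-/

set_option autoImplicit false

namespace Cfsg.Agent.H107.SpReg

open Cfsg.Agent.ClassicalGeometry.SympBasic
open Cfsg.Agent.H107.SpGraph
open Cfsg.Agent.H107.SpTr
open Cfsg.Agent.H107.Comp
open Matrix

variable {n : ℕ} {F : Type*} [Field F]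

local notation "⟪" u ", " v "⟫" => Cfsg.sympForm n F u v

/-- the left and the right Lagrangian -/
def iL (x : Fin n → F) : Fin n ⊕ Fin n → F := Sum.elim x 0

/-- the left and the right Lagrangian -/
def iR (x : Fin n → F) : Fin n ⊕ Fin n → F := Sum.elim 0 x

theorem form_LR (x y x' y' : Fin n → F) :
    ⟪iL x + iR y, iL x' + iR y'⟫ = y ⬝ᵥ x' - x ⬝ᵥ y' := by
  rw [sympForm_eq_sum, Finset.sum_sub_distrib]
  simp [iL, iR, dotProduct]

theorem form_LL (x x' : Fin n → F) : ⟪iL x, iL x'⟫ = 0 := by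
  rw [sympForm_eq_sum]
  simp [iL]

theorem form_RR (x x' : Fin n → F) : ⟪iR x, iR x'⟫ = 0 := by
  rw [sympForm_eq_sum]
  simp [iR]

theorem form_L_R (x x' : Fin n → F) : ⟪iL x, iR x'⟫ = - (x ⬝ᵥ x') := by
  rw [sympForm_eq_sum]
  simp [iR, iL, dotProduct]

theorem form_R_L (x x' : Fin n → F) : ⟪iR x, iL x'⟫ = x ⬝ᵥ x' := by
  rw [sympForm_eq_sum]
  simp [iR, iL, dotProduct]

theorem eq_LR (v : Fin n ⊕ Fin n → F) : v = iL (v ∘ Sum.inl) + iR (v ∘ Sum.inr) := by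
  funext i
  rcases i with i | i <;> simp [iL, iR]

theorem iL_add (x y : Fin n → F) : iL (x + y) = iL x + iL y := by
  funext i
  rcases i with i | i <;> simp [iL]

theorem iR_add (x y : Fin n → F) : iR (x + y) = iR x + iR y := by
  funext i
  rcases i with i | i <;> simp [iR]

theorem iR_sub (x y : Fin n → F) : iR (x - y) = iR x - iR y := by
  funext i
  rcases i with i | i <;> simp [iR]

theorem iL_sub (x y : Fin n → F) : iL (x - y) = iL x - iL y := by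
  funext i
  rcases i with i | i <;> simp [iL]

theorem iR_smul (c : F) (x : Fin n → F) : iR (c • x) = c • iR x := by
  funext i
  rcases i with i | i <;> simp [iR]

theorem iL_zero : iL (0 : Fin n → F) = 0 := by
  funext i
  rcases i with i | i <;> simp [iL]

theorem iR_zero : iR (0 : Fin n → F) = 0 := by
  funext i
  rcases i with i | i <;> simp [iR]

/-- the block diagonal matrix -/
def levMat (A B : Matrix (Fin n) (Fin n) F) : Matrix (Fin n ⊕ Fin n) (Fin n ⊕ Fin n) F :=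
  Matrix.fromBlocks A 0 0 Bᵀ

theorem levMat_L (A B : Matrix (Fin n) (Fin n) F) (x : Fin n → F) :
    levMat A B *ᵥ iL x = iL (A *ᵥ x) := by
  rw [levMat, iL, iL, Matrix.fromBlocks_mulVec]
  simp

theorem levMat_R (A B : Matrix (Fin n) (Fin n) F) (x : Fin n → F) :
    levMat A B *ᵥ iR x = iR (Bᵀ *ᵥ x) := by
  rw [levMat, iR, iR, Matrix.fromBlocks_mulVec]
  simp

theorem levMat_mem {A B : Matrix (Fin n) (Fin n) F} (h : B * A = 1) :
    levMat A B ∈ Matrix.symplecticGroup (Fin n) F := by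
  rw [mem_symplecticGroup_iff]
  intro u v
  have key : ∀ x y : Fin n → F, (Bᵀ *ᵥ x) ⬝ᵥ (A *ᵥ y) = x ⬝ᵥ y := by
    intro x y
    rw [Matrix.mulVec_transpose, ← Matrix.dotProduct_mulVec, Matrix.mulVec_mulVec, h,
      Matrix.one_mulVec]
  rw [eq_LR u, eq_LR v, Matrix.mulVec_add, Matrix.mulVec_add, levMat_L, levMat_R, levMat_L,
    levMat_R, form_LR, form_LR, key, dotProduct_comm (A *ᵥ _), key, dotProduct_comm (v ∘ Sum.inr)]

/-- the block diagonal element -/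
def lev (A B : Matrix (Fin n) (Fin n) F) (h : B * A = 1) : Matrix.symplecticGroup (Fin n) F :=
  ⟨levMat A B, levMat_mem h⟩

/-- the inverse of the Jordan block -/
def Ji (n : ℕ) (F : Type*) [Field F] : Matrix (Fin n) (Fin n) F :=
  ((J n F)⁻¹ : Matrix.SpecialLinearGroup (Fin n) F)

theorem Ji_mul : Ji n F * (1 + N n F) = 1 := by
  have h : (J n F)⁻¹ * J n F = 1 := inv_mul_cancel _
  have h2 := congrArg (fun g : Matrix.SpecialLinearGroup (Fin n) F =>
    (g : Matrix (Fin n) (Fin n) F)) h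
  simp only [Matrix.SpecialLinearGroup.coe_mul, Matrix.SpecialLinearGroup.coe_one] at h2
  exact h2

theorem mul_Ji : (1 + N n F) * Ji n F = 1 := by
  have h : J n F * (J n F)⁻¹ = 1 := mul_inv_cancel _
  have h2 := congrArg (fun g : Matrix.SpecialLinearGroup (Fin n) F =>
    (g : Matrix (Fin n) (Fin n) F)) h
  simp only [Matrix.SpecialLinearGroup.coe_mul, Matrix.SpecialLinearGroup.coe_one] at h2
  exact h2

theorem Ji_sub_one : Ji n F - 1 = -(Ji n F * N n F) := by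
  have h := Ji_mul (n := n) (F := F)
  rw [mul_add, mul_one] at h
  rw [← h]
  abel

theorem Ji_comm : Commute (Ji n F) (N n F) := by
  have h1 := Ji_mul (n := n) (F := F)
  have h2 := mul_Ji (n := n) (F := F)
  rw [mul_add, mul_one] at h1
  rw [add_mul, one_mul] at h2
  exact add_left_cancel (h1.trans h2.symm)

theorem Ji_sub_pow (k : ℕ) : (Ji n F - 1) ^ k = (-1) ^ k * (Ji n F ^ k * N n F ^ k) := by
  rw [Ji_sub_one, neg_pow, Ji_comm.mul_pow]

theorem Ji_sub_pow_eq_zero : (Ji n F - 1) ^ n = 0 := by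
  rw [Ji_sub_pow, N_pow, mul_zero, mul_zero]

theorem Ji_fix (hn : 0 < n) : Ji n F *ᵥ e n F (n - 1) = e n F (n - 1) := by
  have h1 : (1 + N n F) *ᵥ e n F (n - 1) = e n F (n - 1) := by
    rw [Matrix.add_mulVec, Matrix.one_mulVec, N_mulVec_e, e_of_le (k := n - 1 + 1) (by omega),
      add_zero]
  have h2 : Ji n F *ᵥ ((1 + N n F) *ᵥ e n F (n - 1)) = e n F (n - 1) := by
    rw [Matrix.mulVec_mulVec, Ji_mul, Matrix.one_mulVec]
  rwa [h1] at h2

theorem Ji_pow_fix (hn : 0 < n) (k : ℕ) : (Ji n F ^ k) *ᵥ e n F (n - 1) = e n F (n - 1) := by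
  induction k with
  | zero => rw [pow_zero, Matrix.one_mulVec]
  | succ k ih => rw [pow_succ, ← Matrix.mulVec_mulVec, Ji_fix hn, ih]

theorem Ji_sub_pow_e (hn : 0 < n) :
    ((Ji n F - 1) ^ (n - 1)) *ᵥ e n F 0 = (-1 : F) ^ (n - 1) • e n F (n - 1) := by
  rw [Ji_sub_pow, ← Matrix.mulVec_mulVec, ← Matrix.mulVec_mulVec, N_pow_mulVec_e, zero_add,
    Ji_pow_fix hn]
  have : ((-1 : Matrix (Fin n) (Fin n) F) ^ (n - 1)) = ((-1 : F) ^ (n - 1)) • 1 := by
    rcases Nat.even_or_odd (n - 1) with h | h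
    · rw [h.neg_one_pow, h.neg_one_pow, one_smul]
    · rw [h.neg_one_pow, h.neg_one_pow, neg_one_smul]
  rw [this, Matrix.smul_mulVec, Matrix.one_mulVec]

/-- the top entry of the inverse Jordan block -/
theorem Ji_dot_zero (hn : 0 < n) : e n F 0 ⬝ᵥ (Ji n F *ᵥ e n F 0) = 1 := by
  have h1 : Ji n F = 1 - N n F * Ji n F := by
    have h2 := mul_Ji (n := n) (F := F)
    rw [add_mul, one_mul] at h2
    rw [← h2]; abel
  rw [h1, Matrix.sub_mulVec, Matrix.one_mulVec, dotProduct_sub, e_dot hn, ← Matrix.mulVec_mulVec,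
    e_apply, if_pos rfl, e_dot hn]
  have : ∀ x : Fin n → F, (N n F *ᵥ x) ⟨0, hn⟩ = 0 := by
    intro x
    rw [Matrix.mulVec, dotProduct]
    refine Finset.sum_eq_zero fun j _ => ?_
    rw [low_N _ j (by change 0 < _; omega), zero_mul]
  rw [this, sub_zero]

/-- The regular unipotent element. -/
def w₀ (n : ℕ) (F : Type*) [Field F] : Matrix.symplecticGroup (Fin n) F :=
  lev (1 + N n F) (Ji n F) Ji_mul * transv (iR (e n F (n - 1))) 1 * transv (iR (e n F 0)) 1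

theorem act_w₀_R (x : Fin n → F) : act (w₀ n F) (iR x) = iR ((Ji n F)ᵀ *ᵥ x) := by
  have h1 : ∀ y : Fin n → F, act (transv (iR y) 1) (iR x) = iR x := fun y => by
    rw [act_transv, form_RR, mul_zero, zero_smul, add_zero]
  rw [w₀, act_mul, act_mul, h1, h1]
  exact levMat_R _ _ _

theorem act_w₀_L (x : Fin n → F) : act (w₀ n F) (iL x) = iL ((1 + N n F) *ᵥ x) -
    iR ((Ji n F)ᵀ *ᵥ ((x ⬝ᵥ e n F 0) • e n F 0 + (x ⬝ᵥ e n F (n - 1)) • e n F (n - 1))) := by
  have h0 : ∀ y z : Fin n → F, act (transv (iR y) 1) (iR z) = iR z := fun y z => by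
    rw [act_transv, form_RR, mul_zero, zero_smul, add_zero]
  have h3 : act (transv (iR (e n F (n - 1))) 1) (act (transv (iR (e n F 0)) 1) (iL x)) =
      iL x + (1 * -(x ⬝ᵥ e n F (n - 1))) • iR (e n F (n - 1)) +
        (1 * -(x ⬝ᵥ e n F 0)) • iR (e n F 0) := by
    rw [act_transv (iR (e n F 0)) (iL x), act_add, act_smul, h0, act_transv, form_L_R, form_L_R]
  rw [w₀, act_mul, act_mul, h3, act_add, act_add, act_smul, act_smul]
  have h1 : ∀ y : Fin n → F, act (lev (1 + N n F) (Ji n F) Ji_mul) (iR y) =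
    iR ((Ji n F)ᵀ *ᵥ y) := fun y => levMat_R _ _ _
  have h2 : act (lev (1 + N n F) (Ji n F) Ji_mul) (iL x) = iL ((1 + N n F) *ᵥ x) :=
    levMat_L _ _ _
  rw [h1, h1, h2, Matrix.mulVec_add, iR_add, Matrix.mulVec_smul, Matrix.mulVec_smul, iR_smul,
    iR_smul]
  module

theorem sub_one_mulVec (g : Matrix.symplecticGroup (Fin n) F) (x : Fin n ⊕ Fin n → F) :
    ((g : Matrix (Fin n ⊕ Fin n) (Fin n ⊕ Fin n) F) - 1) *ᵥ x = act g x - x := by
  rw [Matrix.sub_mulVec, Matrix.one_mulVec]; rfl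

/-- the nilpotent part -/
def Nw (n : ℕ) (F : Type*) [Field F] : Matrix (Fin n ⊕ Fin n) (Fin n ⊕ Fin n) F :=
  (w₀ n F : Matrix (Fin n ⊕ Fin n) (Fin n ⊕ Fin n) F) - 1

theorem Nw_R (x : Fin n → F) : Nw n F *ᵥ iR x = iR ((Ji n F - 1)ᵀ *ᵥ x) := by
  rw [Nw, sub_one_mulVec, act_w₀_R, Matrix.transpose_sub, Matrix.sub_mulVec,
    Matrix.transpose_one, Matrix.one_mulVec, iR_sub]

theorem Nw_pow_R (k : ℕ) (x : Fin n → F) :
    (Nw n F ^ k) *ᵥ iR x = iR (((Ji n F - 1) ^ k)ᵀ *ᵥ x) := by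
  induction k with
  | zero => rw [pow_zero, pow_zero, Matrix.transpose_one, Matrix.one_mulVec, Matrix.one_mulVec]
  | succ k ih =>
    rw [pow_succ', ← Matrix.mulVec_mulVec, ih, Nw_R, Matrix.mulVec_mulVec,
      ← Matrix.transpose_mul, ← pow_succ]

theorem Nw_L (x : Fin n → F) : Nw n F *ᵥ iL x = iL (N n F *ᵥ x) -
    iR ((Ji n F)ᵀ *ᵥ ((x ⬝ᵥ e n F 0) • e n F 0 + (x ⬝ᵥ e n F (n - 1)) • e n F (n - 1))) := by
  rw [Nw, sub_one_mulVec, act_w₀_L, Matrix.add_mulVec, Matrix.one_mulVec, iL_add]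
  abel

theorem Nw_pow_L (k : ℕ) (x : Fin n → F) :
    ∃ y, (Nw n F ^ k) *ᵥ iL x = iL ((N n F ^ k) *ᵥ x) + iR y := by
  induction k with
  | zero => exact ⟨0, by rw [pow_zero, pow_zero, Matrix.one_mulVec, Matrix.one_mulVec, iR_zero,
      add_zero]⟩
  | succ k ih =>
    obtain ⟨y, hy⟩ := ih
    refine ⟨-((Ji n F)ᵀ *ᵥ (((N n F ^ k *ᵥ x) ⬝ᵥ e n F 0) • e n F 0 +
      ((N n F ^ k *ᵥ x) ⬝ᵥ e n F (n - 1)) • e n F (n - 1))) + (Ji n F - 1)ᵀ *ᵥ y, ?_⟩
    rw [pow_succ', ← Matrix.mulVec_mulVec, hy, Matrix.mulVec_add, Nw_L, Nw_R,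
      Matrix.mulVec_mulVec, ← pow_succ', iR_add, ← neg_one_smul F
        ((Ji n F)ᵀ *ᵥ (((N n F ^ k *ᵥ x) ⬝ᵥ e n F 0) • e n F 0 +
      ((N n F ^ k *ᵥ x) ⬝ᵥ e n F (n - 1)) • e n F (n - 1))), iR_smul]
    module

theorem Nw_pow_eq_zero : Nw n F ^ (2 * n) = 0 := by
  rw [← Matrix.mulVec_injective.eq_iff]
  funext v
  rw [eq_LR v, Matrix.mulVec_add, two_mul, pow_add, ← Matrix.mulVec_mulVec,
    ← Matrix.mulVec_mulVec]
  obtain ⟨y, hy⟩ := Nw_pow_L n (v ∘ Sum.inl)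
  rw [hy, N_pow, Matrix.zero_mulVec, iL_zero, zero_add, Nw_pow_R, Nw_pow_R, Nw_pow_R,
    Ji_sub_pow_eq_zero, Matrix.transpose_zero, Matrix.zero_mulVec, Matrix.zero_mulVec,
    Matrix.zero_mulVec, iR_zero, add_zero]

theorem Nw_pow_e_ne_zero (hn : 2 ≤ n) : (Nw n F ^ (2 * n - 1)) *ᵥ iL (e n F 0) ≠ 0 := by
  obtain ⟨y, hy⟩ := Nw_pow_L (n - 1) (e n F 0)
  rw [N_pow_mulVec_e, zero_add] at hy
  have h1 : (Nw n F ^ n) *ᵥ iL (e n F 0) =
      iR (-((Ji n F)ᵀ *ᵥ e n F (n - 1)) + (Ji n F - 1)ᵀ *ᵥ y) := by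
    have hn' : Nw n F ^ n = Nw n F * Nw n F ^ (n - 1) := by
      rw [← pow_succ']; congr 1; omega
    rw [hn', ← Matrix.mulVec_mulVec, hy, Matrix.mulVec_add, Nw_L, N_mulVec_e,
      e_of_le (k := n - 1 + 1) (by omega), iL_zero, dot_e (by omega : 0 < n),
      dot_e (by omega : n - 1 < n), e_apply, e_apply, if_neg (by change ¬ (0 = n - 1); omega),
      if_pos (by simp), zero_smul, one_smul, zero_add, Nw_R, iR_add, ← neg_one_smul F
        ((Ji n F)ᵀ *ᵥ e n F (n - 1)), iR_smul]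
    module
  intro h
  rw [show 2 * n - 1 = (n - 1) + n by omega, pow_add, ← Matrix.mulVec_mulVec, h1, Nw_pow_R] at h
  have h2 := congrArg (fun v => v ∘ Sum.inr ⬝ᵥ e n F 0) h
  simp only [iR, Sum.elim_comp_inr] at h2
  have h3 : (0 : Fin n ⊕ Fin n → F) ∘ Sum.inr ⬝ᵥ e n F 0 = 0 := zero_dotProduct _
  rw [h3, Matrix.mulVec_transpose, ← Matrix.dotProduct_mulVec, Ji_sub_pow_e (by omega),
    dotProduct_smul, add_dotProduct, neg_dotProduct, Matrix.mulVec_transpose,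
    ← Matrix.dotProduct_mulVec, Ji_fix (by omega), Matrix.mulVec_transpose,
    ← Matrix.dotProduct_mulVec, Matrix.sub_mulVec, Ji_fix (by omega), Matrix.one_mulVec, sub_self,
    dotProduct_zero, add_zero, dot_e (by omega), e_apply, if_pos (by simp), smul_eq_mul] at h2
  exact mul_ne_zero (pow_ne_zero _ (neg_ne_zero.2 one_ne_zero)) (neg_ne_zero.2 one_ne_zero) h2

theorem form_w₀ (hn : 2 ≤ n) : ⟪iL (e n F 0), act (w₀ n F) (iL (e n F 0))⟫ = 1 := by
  rw [act_w₀_L, dot_e (by omega : 0 < n), dot_e (by omega : n - 1 < n), e_apply, e_apply,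
    if_pos rfl, if_neg (by change ¬ (n - 1 = 0); omega), one_smul, zero_smul, add_zero,
    sympForm_sub_right, form_LL, form_L_R, zero_sub, neg_neg, Matrix.mulVec_transpose,
    dotProduct_comm, ← Matrix.dotProduct_mulVec, Ji_dot_zero (by omega)]

end Cfsg.Agent.H107.SpReg
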