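import Mathlib
import Cfsg.Agent.ClassicalGeometry.SympBasic
import Cfsg.Agent.H107.SpReg

/-!
Cyclic vectors of regular unipotent symplectic elements; base change.
-/

set_option autoImplicit false

namespace Cfsg.Agent.H107.SpCyc

open Cfsg.Agent.ClassicalGeometry.SympBasic
open Cfsg.Agent.H107.SpGraph
open Cfsg.Agent.H107.SpTr
open Cfsg.Agent.H107.SpReg
open Matrix

variable {n : ℕ} {F : Type*} [Field F]

local notation "⟪" u ", " v "⟫" => Cfsg.sympForm n F u v

theorem linInd {ι : Type*} [Fintype ι] [DecidableEq ι] {N : Matrix ι ι F} {m : ℕ} {y : ι → F}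
    (h0 : N ^ m = 0) (hy : (N ^ (m - 1)) *ᵥ y ≠ 0) :
    LinearIndependent F (fun i : Fin m => (N ^ (i : ℕ)) *ᵥ y) := by
  rw [Fintype.linearIndependent_iff]
  intro g hg
  have key : ∀ k : ℕ, ∀ i : Fin m, (i : ℕ) = k → g i = 0 := by
    intro k
    induction k using Nat.strong_induction_on with
    | _ k ih =>
      intro i hi
      have h1 := congrArg (fun v => (N ^ (m - 1 - k)) *ᵥ v) hg
      simp only [Matrix.mulVec_zero] at h1
      rw [Matrix.mulVec_sum, Finset.sum_eq_single i] at h1
      · rw [Matrix.mulVec_smul, Matrix.mulVec_mulVec, ← pow_add, hi,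
          show m - 1 - k + k = m - 1 by have := i.2; omega, smul_eq_zero] at h1
        exact h1.resolve_right hy
      · intro j _ hji
        rcases lt_or_gt_of_ne (fun h => hji (Fin.ext h) : (j : ℕ) ≠ (i : ℕ)) with h | h
        · rw [ih j (by omega) j rfl, zero_smul, Matrix.mulVec_zero]
        · rw [Matrix.mulVec_smul, Matrix.mulVec_mulVec, ← pow_add,
            show m - 1 - k + j = m + (m - 1 - k + j - m) by omega, pow_add, h0, zero_mul,
            Matrix.zero_mulVec, smul_zero]
      · intro h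
        exact absurd (Finset.mem_univ i) h
  exact fun i => key i i rfl

theorem span_pow {g : Matrix.symplecticGroup (Fin n) F} {y : Fin n ⊕ Fin n → F} (hn : 0 < n)
    (h0 : ((g : Matrix (Fin n ⊕ Fin n) (Fin n ⊕ Fin n) F) - 1) ^ (2 * n) = 0)
    (hy : (((g : Matrix (Fin n ⊕ Fin n) (Fin n ⊕ Fin n) F) - 1) ^ (2 * n - 1)) *ᵥ y ≠ 0) :
    Submodule.span F (Set.range fun k : ℕ => act (g ^ k) y) = ⊤ := by
  have h1 := linInd h0 hy
  have hne : Nonempty (Fin (2 * n)) := ⟨⟨0, by omega⟩⟩
  have h2 := h1.span_eq_top_of_card_eq_finrank' (by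
    rw [Fintype.card_fin, Module.finrank_fintype_fun_eq_card, Fintype.card_sum, Fintype.card_fin,
      two_mul])
  rw [eq_top_iff, ← h2, Submodule.span_le]
  rintro _ ⟨i, rfl⟩
  have key : ∀ k : ℕ, (((g : Matrix (Fin n ⊕ Fin n) (Fin n ⊕ Fin n) F) - 1) ^ k) *ᵥ y ∈
      Submodule.span F (Set.range fun k : ℕ => act (g ^ k) y) := by
    have hstab : ∀ x ∈ Submodule.span F (Set.range fun k : ℕ => act (g ^ k) y),
        act g x ∈ Submodule.span F (Set.range fun k : ℕ => act (g ^ k) y) := by
      intro x hx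
      induction hx using Submodule.span_induction with
      | mem x hx =>
        obtain ⟨k, rfl⟩ := hx
        refine Submodule.subset_span ⟨k + 1, ?_⟩
        change act (g ^ (k + 1)) y = act g (act (g ^ k) y)
        rw [pow_succ', act_mul]
      | zero => rw [act_zero]; exact Submodule.zero_mem _
      | add x y _ _ hx hy => rw [act_add]; exact Submodule.add_mem _ hx hy
      | smul c x _ hx => rw [act_smul]; exact Submodule.smul_mem _ _ hx
    intro k
    induction k with
    | zero =>
      rw [pow_zero, Matrix.one_mulVec]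
      exact Submodule.subset_span ⟨0, by simp only [pow_zero, act_one]⟩
    | succ k ih =>
      rw [pow_succ', ← Matrix.mulVec_mulVec, sub_one_mulVec]
      exact Submodule.sub_mem _ (hstab _ ih) ih
  exact key i

/-! ### Base change -/

section Map

variable {K : Type*} [Field K] (f : K →+* F)

/-- the coordinatewise map -/
def io (x : Fin n ⊕ Fin n → K) : Fin n ⊕ Fin n → F := fun i => f (x i)

theorem io_add (x y : Fin n ⊕ Fin n → K) : io f (x + y) = io f x + io f y := by
  funext i; exact map_add f _ _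

theorem io_sub (x y : Fin n ⊕ Fin n → K) : io f (x - y) = io f x - io f y := by
  funext i; exact map_sub f _ _

theorem io_smul (c : K) (x : Fin n ⊕ Fin n → K) : io f (c • x) = f c • io f x := by
  funext i; exact map_mul f _ _

theorem io_zero : io f (0 : Fin n ⊕ Fin n → K) = 0 := by
  funext i; exact map_zero f

theorem io_ne_zero {x : Fin n ⊕ Fin n → K} (h : x ≠ 0) : io f x ≠ 0 := by
  intro h1
  apply h
  funext i
  have h2 := congrFun h1 i
  exact (map_eq_zero f).1 h2

theorem form_io (x y : Fin n ⊕ Fin n → K) :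
    ⟪io f x, io f y⟫ = f (Cfsg.sympForm n K x y) := by
  rw [sympForm_eq_sum, sympForm_eq_sum, map_sum]
  refine Finset.sum_congr rfl fun i _ => ?_
  rw [map_sub, map_mul, map_mul]
  rfl

theorem J_map : (Matrix.J (Fin n) K).map f = Matrix.J (Fin n) F := by
  rw [Matrix.J, Matrix.J, Matrix.fromBlocks_map]
  congr 1
  · ext; simp
  · ext i j; simp [Matrix.one_apply, apply_ite f]
  · ext i j; simp [Matrix.one_apply, apply_ite f]
  · ext; simp

/-- base change of the symplectic group -/
def mapSp : Matrix.symplecticGroup (Fin n) K →* Matrix.symplecticGroup (Fin n) F where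
  toFun g := ⟨(g : Matrix (Fin n ⊕ Fin n) (Fin n ⊕ Fin n) K).map f, by
    rw [SymplecticGroup.mem_iff, ← J_map f, ← Matrix.map_mul, ← Matrix.transpose_map,
      ← Matrix.map_mul, SymplecticGroup.mem_iff.1 g.2]⟩
  map_one' := Subtype.ext (by
    change (1 : Matrix (Fin n ⊕ Fin n) (Fin n ⊕ Fin n) K).map f = 1
    exact Matrix.map_one f (map_zero f) (map_one f))
  map_mul' g h := Subtype.ext (by
    change ((g : Matrix (Fin n ⊕ Fin n) (Fin n ⊕ Fin n) K) * h).map f = _
    rw [Matrix.map_mul]; rfl)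

theorem coe_mapSp (g : Matrix.symplecticGroup (Fin n) K) :
    (mapSp f g : Matrix (Fin n ⊕ Fin n) (Fin n ⊕ Fin n) F) =
      (g : Matrix (Fin n ⊕ Fin n) (Fin n ⊕ Fin n) K).map f := rfl

theorem act_io (g : Matrix.symplecticGroup (Fin n) K) (x : Fin n ⊕ Fin n → K) :
    act (mapSp f g) (io f x) = io f (act g x) := by
  funext i
  rw [act_def, act_def, coe_mapSp]
  exact (RingHom.map_mulVec f _ _ i).symm

theorem mapSp_transv (v : Fin n ⊕ Fin n → K) (c : K) :
    mapSp f (transv v c) = transv (io f v) (f c) := by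
  apply Subtype.ext
  rw [coe_mapSp, coe_transv, coe_transv]
  ext i j
  have h := congrFun (act_io f (transv v c) (Pi.single j 1)) i
  rw [act_transv, act_def, coe_mapSp, coe_transv, io_add, io_smul, map_mul] at h
  have h2 : io f (Pi.single j 1 : Fin n ⊕ Fin n → K) = Pi.single j 1 := by
    funext k
    rw [io]
    by_cases hk : k = j
    · rw [hk, Pi.single_eq_same, Pi.single_eq_same, map_one]
    · rw [Pi.single_eq_of_ne hk, Pi.single_eq_of_ne hk, map_zero]
  rw [← form_io, h2, Matrix.mulVec_single_one] at h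
  have h3 := congrFun (sympTransvection_mulVec (io f v) (Pi.single j 1) (f c)) i
  rw [Matrix.mulVec_single_one] at h3
  exact h.trans h3.symm

theorem sub_one_map (g : Matrix.symplecticGroup (Fin n) K) (k : ℕ) :
    ((mapSp f g : Matrix (Fin n ⊕ Fin n) (Fin n ⊕ Fin n) F) - 1) ^ k =
      (((g : Matrix (Fin n ⊕ Fin n) (Fin n ⊕ Fin n) K) - 1) ^ k).map f := by
  have h1 : (mapSp f g : Matrix (Fin n ⊕ Fin n) (Fin n ⊕ Fin n) F) - 1 =
      (f.mapMatrix ((g : Matrix (Fin n ⊕ Fin n) (Fin n ⊕ Fin n) K) - 1)) := by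
    rw [map_sub, map_one]
    rfl
  rw [h1, ← map_pow]
  rfl

theorem sub_one_map_io (g : Matrix.symplecticGroup (Fin n) K) (k : ℕ) (x : Fin n ⊕ Fin n → K) :
    (((mapSp f g : Matrix (Fin n ⊕ Fin n) (Fin n ⊕ Fin n) F) - 1) ^ k) *ᵥ io f x =
      io f ((((g : Matrix (Fin n ⊕ Fin n) (Fin n ⊕ Fin n) K) - 1) ^ k) *ᵥ x) := by
  funext i
  rw [sub_one_map]
  exact (RingHom.map_mulVec f _ _ i).symm

end Map

end Cfsg.Agent.H107.SpCyc
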