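import Mathlib
import Cfsg.Agent.ClassicalGeometry.SympBasic
import Cfsg.Agent.H107.SpConj
import Cfsg.Agent.H107.SpCyc
import Cfsg.Agent.H107.Prime

/-!
Three conjugate regular unipotents generate `Sp_{2n}(q)`, odd characteristic.
-/

set_option autoImplicit false

namespace Cfsg.Agent.H107.SpOdd

open Cfsg.Agent.ClassicalGeometry.SympBasic
open Cfsg.Agent.H107.SpGraph
open Cfsg.Agent.H107.SpTr
open Cfsg.Agent.H107.SpReg
open Cfsg.Agent.H107.SpCyc
open Cfsg.Agent.H107.SpConj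
open Cfsg.Agent.H107.Comp
open Matrix

variable {n : ℕ} {F : Type*} [Field F]

local notation "⟪" u ", " v "⟫" => Cfsg.sympForm n F u v

/-- `N^k y` -/
def zv (g : Matrix.symplecticGroup (Fin n) F) (y : Fin n ⊕ Fin n → F) (k : ℕ) :
    Fin n ⊕ Fin n → F :=
  (((g : Matrix (Fin n ⊕ Fin n) (Fin n ⊕ Fin n) F) - 1) ^ k) *ᵥ y

theorem act_zv (g : Matrix.symplecticGroup (Fin n) F) (y : Fin n ⊕ Fin n → F) (k : ℕ) :
    act g (zv g y k) = zv g y k + zv g y (k + 1) := by
  rw [zv, zv, pow_succ', ← Matrix.mulVec_mulVec, sub_one_mulVec]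
  abel

theorem zv_succ (g : Matrix.symplecticGroup (Fin n) F) (y : Fin n ⊕ Fin n → F) (k : ℕ) :
    zv g y (k + 1) = act g (zv g y k) - zv g y k := by
  rw [act_zv]; abel

theorem zv_zero (g : Matrix.symplecticGroup (Fin n) F) (y : Fin n ⊕ Fin n → F) :
    zv g y 0 = y := by
  rw [zv, pow_zero, Matrix.one_mulVec]

theorem orth_of_fix {g : Matrix.symplecticGroup (Fin n) F} {a : Fin n ⊕ Fin n → F}
    (h : act g a = a) (x : Fin n ⊕ Fin n → F) : ⟪a, act g x - x⟫ = 0 := by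
  rw [sympForm_sub_right]
  nth_rewrite 1 [← h]
  rw [form_act, sub_self]

theorem zv_map {K : Type*} [Field K] (f : K →+* F) (g : Matrix.symplecticGroup (Fin n) K)
    (y : Fin n ⊕ Fin n → K) (k : ℕ) : zv (mapSp f g) (io f y) k = io f (zv g y k) :=
  sub_one_map_io f g k y

/-- base vector -/
def a₀ (n : ℕ) (F : Type*) [Field F] : Fin n ⊕ Fin n → F := iL (e n F 0)

theorem zv_top : zv (w₀ n F) (a₀ n F) (2 * n) = 0 := by
  have h : ((w₀ n F : Matrix (Fin n ⊕ Fin n) (Fin n ⊕ Fin n) F) - 1) ^ (2 * n) = 0 :=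
    Nw_pow_eq_zero
  rw [zv, h, Matrix.zero_mulVec]

theorem zv_ne (hn : 2 ≤ n) : zv (w₀ n F) (a₀ n F) (2 * n - 1) ≠ 0 := Nw_pow_e_ne_zero hn

theorem a₀_ne (hn : 0 < n) : a₀ n F ≠ 0 := by
  intro h
  have h1 := congrFun h (Sum.inl ⟨0, hn⟩)
  rw [a₀, iL, Sum.elim_inl, e_apply, if_pos rfl] at h1
  exact one_ne_zero h1

section Map

variable {K : Type*} [Field K] (f : K →+* F) {H : Subgroup (Matrix.symplecticGroup (Fin n) F)}

theorem span_map (hn : 2 ≤ n) :
    Submodule.span F (Set.range fun k : ℕ =>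
      act ((mapSp f (w₀ n K)) ^ k) (io f (a₀ n K))) = ⊤ := by
  refine span_pow (by omega) ?_ ?_
  · rw [sub_one_map]
    have h : ((w₀ n K : Matrix (Fin n ⊕ Fin n) (Fin n ⊕ Fin n) K) - 1) ^ (2 * n) = 0 :=
      Nw_pow_eq_zero
    rw [h]
    exact Matrix.map_zero f (map_zero f)
  · rw [sub_one_map_io]
    exact io_ne_zero f (Nw_pow_e_ne_zero hn)

theorem form_map (hn : 2 ≤ n) :
    ⟪io f (a₀ n K), act (mapSp f (w₀ n K)) (io f (a₀ n K))⟫ ≠ 0 := by
  rw [act_io, form_io, a₀, form_w₀ hn, map_one]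
  exact one_ne_zero

theorem mem_full_comap {p : ℕ} [Fact p.Prime] (f : ZMod p →+* F)
    {H : Subgroup (Matrix.symplecticGroup (Fin n) F)} {a : Fin n ⊕ Fin n → ZMod p} (ha : a ≠ 0)
    (h : transv (io f a) 1 ∈ H) : a ∈ Full (H.comap (mapSp f)) := by
  refine ⟨ha, fun c => ?_⟩
  rw [Subgroup.mem_comap, mapSp_transv]
  have h1 : f c = (c.val : F) * 1 := by
    rw [mul_one, ← map_natCast f, ZMod.natCast_zmod_val]
  rw [h1, transv_natCast]
  exact H.pow_mem h _

/-- the prime subfield group, odd characteristic -/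
theorem comap_eq_top {p : ℕ} [Fact p.Prime] (hp : 3 ≤ p) (f : ZMod p →+* F) (hn : 2 ≤ n)
    {H : Subgroup (Matrix.symplecticGroup (Fin n) F)} (hw : mapSp f (w₀ n (ZMod p)) ∈ H)
    (h : transv (io f (a₀ n (ZMod p))) 1 ∈ H) : H.comap (mapSp f) = ⊤ := by
  have hK : ∃ ν : ZMod p, ν ≠ 0 ∧ ν ≠ 1 := by
    refine ⟨-1, neg_ne_zero.2 one_ne_zero, ?_⟩
    intro h1
    have h2 : ((2 : ℕ) : ZMod p) = 0 := by
      push_cast
      linear_combination -h1
    rw [ZMod.natCast_eq_zero_iff] at h2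
    exact absurd (Nat.le_of_dvd (by norm_num) h2) (by omega)
  refine top_of_full hK (w := w₀ n (ZMod p)) (Subgroup.mem_comap.2 hw)
    (mem_full_comap f (a₀_ne (by omega)) h) ?_ ?_
  · have := form_w₀ (F := ZMod p) hn
    rw [a₀, this]
    exact one_ne_zero
  · exact span_pow (by omega) Nw_pow_eq_zero (Nw_pow_e_ne_zero hn)

theorem mem_all (hmap : ∀ g : Matrix.symplecticGroup (Fin n) K, mapSp f g ∈ H)
    {v v' : Fin n ⊕ Fin n → K} (hv : v ≠ 0) (hv' : v' ≠ 0) {t : F}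
    (h : transv (io f v) t ∈ H) : transv (io f v') t ∈ H := by
  obtain ⟨g, hg⟩ := exists_act_eq hv hv'
  rw [← hg, ← act_io]
  exact mem_transv_act (hmap g) h

theorem sq_mem (hn : 2 ≤ n) (hmap : ∀ g : Matrix.symplecticGroup (Fin n) K, mapSp f g ∈ H)
    {v : Fin n ⊕ Fin n → K} (hv : v ≠ 0) {t : F}
    (h : transv (io f v) t ∈ H) : transv (io f v) (t ^ 2) ∈ H := by
  have h01 : e n K 0 ⬝ᵥ e n K 1 = 0 := by
    rw [e_dot (by omega), e_apply, if_neg (by change ¬ (0 = 1); omega)]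
  have h11 : e n K 1 ⬝ᵥ e n K 1 = 1 := by
    rw [e_dot (by omega), e_apply, if_pos rfl]
  have he : ∀ k, k < n → e n K k ≠ 0 := by
    intro k hk h
    have := congrFun h ⟨k, hk⟩
    rw [e_apply, if_pos rfl] at this
    exact one_ne_zero this
  have hR : ∀ x : Fin n → K, x ≠ 0 → iR x ≠ 0 := by
    intro x hx h
    apply hx
    funext i
    exact congrFun h (Sum.inr i)
  have hL : ∀ x : Fin n → K, x ≠ 0 → iL x ≠ 0 := by
    intro x hx h
    apply hx
    funext i
    exact congrFun h (Sum.inl i)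
  have hA0 : iR (e n K 0) ≠ 0 := hR _ (he _ (by omega))
  have hB0 : iR (e n K 1) ≠ 0 := hR _ (he _ (by omega))
  have hC0 : iL (e n K 1) ≠ 0 := hL _ (he _ (by omega))
  have hAB : Cfsg.sympForm n K (iR (e n K 0)) (iR (e n K 1)) = 0 := form_RR _ _
  have hAC : Cfsg.sympForm n K (iR (e n K 0)) (iL (e n K 1)) = 0 := by rw [form_R_L, h01]
  have hBC : Cfsg.sympForm n K (iR (e n K 1)) (iL (e n K 1)) = 1 := by rw [form_R_L, h11]
  generalize iR (e n K 0) = A at *
  generalize iR (e n K 1) = B at *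
  generalize iL (e n K 1) = C at *
  have hABne : A + B ≠ 0 := by
    intro h
    have h1 : Cfsg.sympForm n K (A + B) C = 0 := by rw [h, sympForm_zero_left]
    rw [sympForm_add_left, hAC, hBC, zero_add] at h1
    exact one_ne_zero h1
  have hCAne : C + A ≠ 0 := by
    intro h
    have h1 : Cfsg.sympForm n K B (C + A) = 0 := by rw [h, sympForm_zero_right]
    rw [sympForm_add_right, hBC, sympForm_swap B A, hAB, neg_zero, add_zero] at h1
    exact one_ne_zero h1
  have hmem : ∀ x : Fin n ⊕ Fin n → K, x ≠ 0 → transv (io f x) t ∈ H :=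
    fun x hx => mem_all f hmap hv hx h
  have hmemn : ∀ x : Fin n ⊕ Fin n → K, x ≠ 0 → transv (io f x) (-t) ∈ H := fun x hx => by
    rw [← transv_inv]; exact H.inv_mem (hmem x hx)
  have hmem1 : ∀ x : Fin n ⊕ Fin n → K, transv (io f x) 1 ∈ H := fun x => by
    have := hmap (transv x 1)
    rwa [mapSp_transv, map_one] at this
  have hZ : Z (io f A) (io f B) t ∈ H := by
    rw [Z, ← io_add]
    exact H.mul_mem (H.mul_mem (hmem _ hABne) (hmemn _ hA0)) (hmemn _ hB0)
  have hZ2 : Z (io f C) (io f A) (-t) ∈ H := by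
    rw [Z, ← io_add, neg_neg]
    exact H.mul_mem (H.mul_mem (hmemn _ hCAne) (hmem _ hC0)) (hmem _ hA0)
  have fAB : ⟪io f A, io f B⟫ = 0 := by rw [form_io, hAB, map_zero]
  have fAC : ⟪io f A, io f C⟫ = 0 := by rw [form_io, hAC, map_zero]
  have fCA : ⟪io f C, io f A⟫ = 0 := eq_swap.1 fAC
  have fCB : ⟪io f C, io f B⟫ = -1 := by rw [sympForm_swap, form_io, hBC, map_one]
  have h1 := mem_transv_act hZ (hmem1 C)
  rw [act_Z fAB, fCA, fCB, mul_zero, zero_smul, add_zero] at h1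
  have h2 : transv (io f C + (t * -1) • io f A) 1 =
      transv (io f C) 1 * Z (io f C) (io f A) (-t) * transv (io f A) (t ^ 2) := by
    apply ext_act
    intro x
    rw [act_mul, act_mul, act_transv, act_transv, act_Z fCA, act_transv]
    simp only [sympForm_add_left, sympForm_add_right, sympForm_smul_left, sympForm_smul_right,
      sympForm_self, fAC, mul_zero, add_zero]
    module
  rw [h2] at h1
  have h3 : transv (io f A) (t ^ 2) ∈ H :=
    (Subgroup.mul_mem_cancel_left _ (H.mul_mem (hmem1 C) hZ2)).1 h1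
  exact mem_all f hmap hA0 hv h3

end Map

/-- the parameters of one transvection group form a field -/
theorem full_of_gen {p : ℕ} [Fact p.Prime] (hp : 3 ≤ p) (f : ZMod p →+* F) (hn : 2 ≤ n)
    {H : Subgroup (Matrix.symplecticGroup (Fin n) F)}
    (hmap : ∀ g : Matrix.symplecticGroup (Fin n) (ZMod p), mapSp f g ∈ H)
    {v : Fin n ⊕ Fin n → ZMod p} (hv : v ≠ 0) {α : F}
    (hα : ∀ x : F, x ≠ 0 → ∃ k : ℕ, x = α ^ k) (h : transv (io f v) α ∈ H) :
    io f v ∈ Full H := by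
  have h2 : (2 : ZMod p) ≠ 0 := by
    intro h2
    have h3 : ((2 : ℕ) : ZMod p) = 0 := by exact_mod_cast h2
    rw [ZMod.natCast_eq_zero_iff] at h3
    exact absurd (Nat.le_of_dvd (by norm_num) h3) (by omega)
  have hnat : ∀ (t : F) (m : ℕ), transv (io f v) t ∈ H → transv (io f v) ((m : F) * t) ∈ H :=
    fun t m ht => by rw [transv_natCast]; exact H.pow_mem ht _
  have hadd : ∀ s t : F, transv (io f v) s ∈ H → transv (io f v) t ∈ H →
      transv (io f v) (s + t) ∈ H := fun s t hs ht => by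
    rw [← transv_mul]; exact H.mul_mem hs ht
  have hneg : ∀ s : F, transv (io f v) s ∈ H → transv (io f v) (-s) ∈ H := fun s hs => by
    rw [← transv_inv]; exact H.inv_mem hs
  have hmul : ∀ s t : F, transv (io f v) s ∈ H → transv (io f v) t ∈ H →
      transv (io f v) (s * t) ∈ H := by
    intro s t hs ht
    have h3 := hadd _ _ (hadd _ _ (sq_mem f hn hmap hv (hadd _ _ hs ht))
      (hneg _ (sq_mem f hn hmap hv hs))) (hneg _ (sq_mem f hn hmap hv ht))
    have h4 := hnat _ ((2 : ZMod p)⁻¹).val h3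
    have h5 : ((((2 : ZMod p)⁻¹).val : ℕ) : F) = (2 : F)⁻¹ := by
      rw [← map_natCast f, ZMod.natCast_zmod_val, map_inv₀, map_ofNat]
    have h6 : (2 : F) ≠ 0 := by
      rw [← map_ofNat f 2]
      exact (map_ne_zero f).2 h2
    rw [h5] at h4
    have h7 : (2 : F)⁻¹ * ((s + t) ^ 2 + -s ^ 2 + -t ^ 2) = s * t := by
      field_simp; ring
    rwa [h7] at h4
  have hone : transv (io f v) 1 ∈ H := by
    have := hmap (transv v 1)
    rwa [mapSp_transv, map_one] at this
  refine ⟨io_ne_zero f hv, fun c => ?_⟩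
  by_cases hc : c = 0
  · rw [hc, transv_zero]; exact H.one_mem
  · obtain ⟨k, rfl⟩ := hα c hc
    clear hc
    induction k with
    | zero => rw [pow_zero]; exact hone
    | succ k ih => rw [pow_succ]; exact hmul _ _ ih h

/-- **Main theorem, odd characteristic.** -/
theorem main_odd [Finite F] {p : ℕ} [Fact p.Prime] (hp : 3 ≤ p) (f : ZMod p →+* F) (hn : 2 ≤ n) :
    ∃ g h : Matrix.symplecticGroup (Fin n) F,
      Subgroup.closure ({mapSp f (w₀ n (ZMod p)), g * mapSp f (w₀ n (ZMod p)) * g⁻¹,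
        h * mapSp f (w₀ n (ZMod p)) * h⁻¹} : Set (Matrix.symplecticGroup (Fin n) F)) = ⊤ := by
  obtain ⟨α, hα0, hα⟩ := Prime.exists_gen F
  have h2 : (2 : F) ≠ 0 := by
    rw [← map_ofNat f 2]
    refine (map_ne_zero f).2 ?_
    intro h2
    have h3 : ((2 : ℕ) : ZMod p) = 0 := by exact_mod_cast h2
    rw [ZMod.natCast_eq_zero_iff] at h3
    exact absurd (Nat.le_of_dvd (by norm_num) h3) (by omega)
  set W := mapSp f (w₀ n (ZMod p)) with hW
  -- the conjugate of `w₀` fixing the base vector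
  obtain ⟨g₀, hg₀⟩ := exists_act_eq (zv_ne (F := ZMod p) hn) (a₀_ne (F := ZMod p) (by omega : 0 < n))
  set z1 := zv (w₀ n (ZMod p)) (a₀ n (ZMod p)) (2 * n - 1) with hz1
  set z2 := zv (w₀ n (ZMod p)) (a₀ n (ZMod p)) (2 * n - 2) with hz2
  have hfix : act (w₀ n (ZMod p)) z1 = z1 := by
    rw [hz1, act_zv, show 2 * n - 1 + 1 = 2 * n by omega, zv_top, add_zero]
  have hnext : act (w₀ n (ZMod p)) z2 = z2 + z1 := by
    rw [hz2, act_zv, show 2 * n - 2 + 1 = 2 * n - 1 by omega]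
  have horth : Cfsg.sympForm n (ZMod p) z1 z2 = 0 := by
    have h3 : z2 = act (w₀ n (ZMod p)) (zv (w₀ n (ZMod p)) (a₀ n (ZMod p)) (2 * n - 3)) -
        zv (w₀ n (ZMod p)) (a₀ n (ZMod p)) (2 * n - 3) := by
      rw [← zv_succ, show 2 * n - 3 + 1 = 2 * n - 2 by omega]
    rw [h3]
    exact orth_of_fix hfix _
  have hconj : ∀ t : F, ∃ h : Matrix.symplecticGroup (Fin n) F,
      h * W * h⁻¹ = transv (io f z1) t * W := by
    intro t
    refine exists_conj_odd h2 (b := io f z2) ?_ ?_ ?_ t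
    · rw [hW, act_io, hfix]
    · rw [hW, act_io, hnext, io_add]
    · rw [form_io, horth, map_zero]
  set G := mapSp f g₀ with hG
  have hGz : act G (io f z1) = io f (a₀ n (ZMod p)) := by rw [hG, act_io, hg₀]
  have hconj' : ∀ t : F, ∃ h : Matrix.symplecticGroup (Fin n) F,
      h * W * h⁻¹ = transv (io f (a₀ n (ZMod p))) t * (G * W * G⁻¹) := by
    intro t
    obtain ⟨h, hh⟩ := hconj t
    refine ⟨G * h, ?_⟩
    rw [← hGz, ← conj_transv]
    have : G * h * W * (G * h)⁻¹ = G * (h * W * h⁻¹) * G⁻¹ := by group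
    rw [this, hh]
    group
  obtain ⟨h1, hh1⟩ := hconj' α
  obtain ⟨h3, hh3⟩ := hconj' (1 + α)
  refine ⟨h1, h3, ?_⟩
  rw [hh1, hh3]
  set T := transv (io f (a₀ n (ZMod p))) with hT
  set H := Subgroup.closure ({W, T α * (G * W * G⁻¹), T (1 + α) * (G * W * G⁻¹)} :
    Set (Matrix.symplecticGroup (Fin n) F)) with hH
  have hWH : W ∈ H := Subgroup.subset_closure (by simp)
  have hX1 : T α * (G * W * G⁻¹) ∈ H := Subgroup.subset_closure (by simp)
  have hX2 : T (1 + α) * (G * W * G⁻¹) ∈ H := Subgroup.subset_closure (by simp)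
  have hT1 : T 1 ∈ H := by
    have h4 := H.mul_mem hX2 (H.inv_mem hX1)
    have h5 : T (1 + α) * (G * W * G⁻¹) * (T α * (G * W * G⁻¹))⁻¹ = T 1 := by
      rw [hT, ← transv_mul]; group
    rwa [h5] at h4
  have hcomap := comap_eq_top hp f hn hWH hT1
  have hmap : ∀ g : Matrix.symplecticGroup (Fin n) (ZMod p), mapSp f g ∈ H := by
    intro g
    rw [← Subgroup.mem_comap, hcomap]
    trivial
  have hTα : T α ∈ H := by
    have h4 : G * W * G⁻¹ ∈ H := H.mul_mem (H.mul_mem (hmap g₀) hWH) (H.inv_mem (hmap g₀))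
    exact (Subgroup.mul_mem_cancel_right _ h4).1 hX1
  have hfull := full_of_gen hp f hn hmap (a₀_ne (by omega)) hα hTα
  refine top_of_full ?_ hWH hfull (form_map f hn) (span_map f hn)
  refine ⟨-1, neg_ne_zero.2 one_ne_zero, ?_⟩
  intro h4
  exact h2 (by linear_combination -h4)

end Cfsg.Agent.H107.SpOdd
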