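import Mathlib
import Cfsg.Agent.ClassicalGeometry.SympBasic
import Cfsg.Agent.H107.SpConj
import Cfsg.Agent.H107.SpOdd

/-!
Three conjugate regular unipotents generate `Sp_{2n}(q)`, even characteristic:
the root subgroup argument.
-/

set_option autoImplicit false

namespace Cfsg.Agent.H107.SpEven

open Cfsg.Agent.ClassicalGeometry.SympBasic
open Cfsg.Agent.H107.SpGraph
open Cfsg.Agent.H107.SpTr
open Cfsg.Agent.H107.SpReg
open Cfsg.Agent.H107.SpCyc
open Cfsg.Agent.H107.SpConj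
open Cfsg.Agent.H107.SpOdd
open Cfsg.Agent.H107.Comp

variable {n : ℕ} {F : Type*} [Field F]

local notation "⟪" u ", " v "⟫" => Cfsg.sympForm n F u v

/-- the elements of the unipotent radical of the stabiliser of `a` -/
def Q (a b : Fin n ⊕ Fin n → F) (t : F) : Matrix.symplecticGroup (Fin n) F :=
  Z a b 1 * transv a t

theorem act_Q {a b : Fin n ⊕ Fin n → F} (hab : ⟪a, b⟫ = 0) (t : F) (x : Fin n ⊕ Fin n → F) :
    act (Q a b t) x = x + ⟪x, a⟫ • b + (⟪x, b⟫ + t * ⟪x, a⟫) • a := by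
  rw [Q, act_mul, act_Z hab, act_transv]
  simp only [sympForm_add_left, sympForm_smul_left, sympForm_self, hab, mul_zero, add_zero]
  module

theorem conj_Q (g : Matrix.symplecticGroup (Fin n) F) (a b : Fin n ⊕ Fin n → F) (t : F) :
    g * Q a b t * g⁻¹ = Q (act g a) (act g b) t := by
  rw [Q, Q, ← conj_Z, ← conj_transv]
  group

theorem mem_Q_act {H : Subgroup (Matrix.symplecticGroup (Fin n) F)}
    {g : Matrix.symplecticGroup (Fin n) F} (hg : g ∈ H) {a b : Fin n ⊕ Fin n → F} {t : F}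
    (h : Q a b t ∈ H) : Q (act g a) (act g b) t ∈ H := by
  rw [← conj_Q]
  exact H.mul_mem (H.mul_mem hg h) (H.inv_mem hg)

theorem Q_mul (h2 : (2 : F) = 0) {a b b' : Fin n ⊕ Fin n → F} (hab : ⟪a, b⟫ = 0)
    (hab' : ⟪a, b'⟫ = 0) (t t' : F) :
    Q a b t * Q a b' t' = Q a (b + b') (t + t' + ⟪b, b'⟫) := by
  have hba' : ⟪b', a⟫ = 0 := eq_swap.1 hab'
  apply ext_act
  intro x
  rw [act_mul, act_Q hab, act_Q hab', act_Q (by rw [sympForm_add_right, hab, hab', add_zero])]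
  simp only [sympForm_add_left, sympForm_add_right, sympForm_smul_left, sympForm_self, hab,
    hba', mul_zero, add_zero, sympForm_swap b' b]
  match_scalars
  · rfl
  · ring
  · linear_combination (-⟪b, b'⟫ * ⟪x, a⟫) * h2
  · ring

theorem Q_zero (a : Fin n ⊕ Fin n → F) (t : F) : Q a 0 t = transv a t := by
  apply ext_act
  intro x
  rw [act_Q (sympForm_zero_right _), act_transv]
  simp only [sympForm_zero_right, smul_zero, add_zero, zero_add]

theorem Q_swap (h2 : (2 : F) = 0) {a b : Fin n ⊕ Fin n → F} (hab : ⟪a, b⟫ = 0) (x t t' : F) :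
    Q a (x • b) t * Q b (x • a) t' = transv a t * transv b t' := by
  have hba : ⟪b, a⟫ = 0 := eq_swap.1 hab
  apply ext_act
  intro y
  rw [act_mul, act_Q (by rw [sympForm_smul_right, hab, mul_zero]),
    act_Q (by rw [sympForm_smul_right, hba, mul_zero]), act_mul, act_transv, act_transv]
  simp only [sympForm_add_left, sympForm_smul_left, sympForm_smul_right,
    sympForm_self, hab, hba, mul_zero, add_zero]
  match_scalars
  · rfl
  · linear_combination (x * ⟪y, b⟫) * h2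
  · linear_combination (x * ⟪y, a⟫) * h2

theorem transv_mul_transv (h2 : (2 : F) = 0) {a b : Fin n ⊕ Fin n → F} (hab : ⟪a, b⟫ = 0)
    (x : F) : transv b 1 * transv (b + x • a) 1 = Q a (x • b) (x ^ 2) := by
  have hba : ⟪b, a⟫ = 0 := eq_swap.1 hab
  apply ext_act
  intro y
  rw [act_mul, act_Q (by rw [sympForm_smul_right, hab, mul_zero]), act_transv, act_transv]
  simp only [sympForm_add_left, sympForm_add_right, sympForm_smul_left, sympForm_smul_right,
    sympForm_self, hab, mul_zero, add_zero]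
  match_scalars
  · rfl
  · linear_combination (⟪y, b⟫) * h2
  · ring

section Rarg

variable {H : Subgroup (Matrix.symplecticGroup (Fin n) F)} {a b₁ b₂ c : Fin n ⊕ Fin n → F}

theorem swap2 (h2 : (2 : F) = 0) (u v : Fin n ⊕ Fin n → F) : ⟪u, v⟫ = ⟪v, u⟫ := by
  rw [sympForm_swap u v]
  linear_combination (-⟪v, u⟫) * h2

theorem add_self2 (h2 : (2 : F) = 0) (v : Fin n ⊕ Fin n → F) : v + v = 0 := by
  rw [← two_smul F v, h2, zero_smul]

/-- moving along the symmetric group on `b₁, b₂, b₁ + b₂` -/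
theorem R_move (h2 : (2 : F) = 0) (hab2 : ⟪a, b₂⟫ = 0)
    (hbb : ⟪b₁, b₂⟫ = 1) (hT2 : transv b₂ 1 ∈ H) {x t : F} :
    Q a (x • b₁) t ∈ H ↔ Q a (x • (b₁ + b₂)) t ∈ H := by
  have h1 : act (transv b₂ 1) a = a := by
    rw [act_transv, hab2, mul_zero, zero_smul, add_zero]
  have h3 : act (transv b₂ 1) (x • b₁) = x • (b₁ + b₂) := by
    rw [act_smul, act_transv, hbb, one_mul, one_smul]
  have h4 : act (transv b₂ 1) (x • (b₁ + b₂)) = x • b₁ := by
    rw [act_smul, act_transv, sympForm_add_left, hbb, sympForm_self, add_zero, one_mul, one_smul,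
      add_assoc, add_self2 h2, add_zero]
  constructor
  · intro h
    have := mem_Q_act hT2 h
    rwa [h1, h3] at this
  · intro h
    have := mem_Q_act hT2 h
    rwa [h1, h4] at this

theorem R_move' (h2 : (2 : F) = 0) (hab1 : ⟪a, b₁⟫ = 0) (hab2 : ⟪a, b₂⟫ = 0)
    (hbb : ⟪b₁, b₂⟫ = 1) (hT1 : transv b₁ 1 ∈ H) (hT2 : transv b₂ 1 ∈ H) {x t : F} :
    Q a (x • b₁) t ∈ H ↔ Q a (x • b₂) t ∈ H := by
  rw [R_move h2 hab2 hbb hT2, add_comm b₁ b₂]
  exact (R_move (b₁ := b₂) (b₂ := b₁) h2 hab1 (by rw [swap2 h2, hbb]) hT1).symm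

/-- normalising the central coordinate -/
theorem R_norm (h2 : (2 : F) = 0) (hab1 : ⟪a, b₁⟫ = 0) (hab2 : ⟪a, b₂⟫ = 0)
    (hbb : ⟪b₁, b₂⟫ = 1) (hT1 : transv b₁ 1 ∈ H) (hT2 : transv b₂ 1 ∈ H) {x t : F}
    (h : Q a (x • b₁) t ∈ H) : Q a (x • b₁) (x ^ 2) ∈ H := by
  have h1 := (R_move' h2 hab1 hab2 hbb hT1 hT2).1 h
  have h3 := H.mul_mem h h1
  rw [Q_mul h2 (by rw [sympForm_smul_right, hab1, mul_zero])
    (by rw [sympForm_smul_right, hab2, mul_zero]), sympForm_smul_left, sympForm_smul_right, hbb,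
    ← smul_add] at h3
  have h4 : t + t + x * (x * 1) = x ^ 2 := by linear_combination t * h2
  rw [h4] at h3
  exact (R_move h2 hab2 hbb hT2).2 h3

/-- the pair of commuting transvections -/
theorem R_pair (h2 : (2 : F) = 0) (hab1 : ⟪a, b₁⟫ = 0)
    (hac : ⟪a, c⟫ = 1) (hbc : ⟪b₁, c⟫ = 1) (hTa : transv a 1 ∈ H) (hT1 : transv b₁ 1 ∈ H)
    (hTc : transv c 1 ∈ H) {x t : F}
    (h : Q a (x • b₁) t ∈ H) : transv a t * transv b₁ t ∈ H := by
  have e1 : act (transv c 1) a = a + c := by rw [act_transv, hac, one_mul, one_smul]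
  have e2 : act (transv c 1) b₁ = b₁ + c := by rw [act_transv, hbc, one_mul, one_smul]
  have hac' : transv (a + c) 1 ∈ H := by rw [← e1]; exact mem_transv_act hTc hTa
  have hbc' : transv (b₁ + c) 1 ∈ H := by rw [← e2]; exact mem_transv_act hTc hT1
  have hba : ⟪b₁, a⟫ = 0 := eq_swap.1 hab1
  have f1 : act (transv (a + c) 1 * transv (b₁ + c) 1) a = b₁ := by
    rw [act_mul, act_transv, act_transv]
    simp only [sympForm_add_left, sympForm_add_right, sympForm_smul_left, sympForm_self, hab1, hac,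
      hbc, hba, swap2 h2 c a, add_zero, zero_add, one_mul]
    match_scalars
    · linear_combination 2 * h2
    · ring
    · linear_combination 2 * h2
  have f2 : act (transv (a + c) 1 * transv (b₁ + c) 1) b₁ = a := by
    rw [act_mul, act_transv, act_transv]
    simp only [sympForm_add_left, sympForm_add_right, sympForm_smul_left, sympForm_self, hac,
      hbc, hba, swap2 h2 c a, add_zero, zero_add, one_mul]
    match_scalars
    · linear_combination h2
    · linear_combination 2 * h2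
    · linear_combination h2
  have h1 := mem_Q_act (H.mul_mem hac' hbc') h
  rw [act_smul, f1, f2] at h1
  have h3 := H.mul_mem h h1
  rwa [Q_swap h2 hab1] at h3

/-- the multiplicative step -/
theorem R_mul (h2 : (2 : F) = 0) (hab1 : ⟪a, b₁⟫ = 0) (hab2 : ⟪a, b₂⟫ = 0)
    (hbb : ⟪b₁, b₂⟫ = 1) (hac : ⟪a, c⟫ = 1) (hbc : ⟪b₁, c⟫ = 1)
    (hTa : transv a 1 ∈ H) (hT1 : transv b₁ 1 ∈ H) (hT2 : transv b₂ 1 ∈ H)
    (hTc : transv c 1 ∈ H) {x y : F}
    (hx : Q a (x • b₁) (x ^ 2) ∈ H) (hy : Q a (y • b₁) (y ^ 2) ∈ H) :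
    Q a ((x ^ 2 * y) • b₁) (x ^ 2 * y ^ 2) ∈ H := by
  have h1 := R_pair h2 hab1 hac hbc hTa hT1 hTc hx
  have h3 := (R_move' h2 hab1 hab2 hbb hT1 hT2).1 hy
  have h4 := mem_Q_act h1 h3
  have hba : ⟪b₁, a⟫ = 0 := eq_swap.1 hab1
  have hb2a : ⟪b₂, a⟫ = 0 := eq_swap.1 hab2
  have e1 : act (transv a (x ^ 2) * transv b₁ (x ^ 2)) a = a := by
    rw [act_mul, act_transv, act_transv]
    simp only [hab1, sympForm_self, mul_zero, zero_smul, add_zero]
  have e2 : act (transv a (x ^ 2) * transv b₁ (x ^ 2)) (y • b₂) = y • b₂ + (x ^ 2 * y) • b₁ := by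
    rw [act_smul, act_mul, act_transv, act_transv]
    simp only [sympForm_add_left, sympForm_smul_left, hba, hb2a, swap2 h2 b₂ b₁, hbb,
      mul_zero, add_zero, mul_one, zero_smul]
    module
  rw [e1, e2] at h4
  have h5 := H.mul_mem h4 h3
  have e0 : ⟪a, y • b₂ + (x ^ 2 * y) • b₁⟫ = 0 := by
    rw [sympForm_add_right, sympForm_smul_right, sympForm_smul_right, hab1, hab2]
    ring
  rw [Q_mul h2 e0 (by rw [sympForm_smul_right, hab2, mul_zero])] at h5
  simp only [sympForm_add_left, sympForm_smul_left, sympForm_smul_right, sympForm_self,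
    hbb] at h5
  have e3 : y • b₂ + (x ^ 2 * y) • b₁ + y • b₂ = (x ^ 2 * y) • b₁ := by
    rw [add_right_comm, add_self2 h2, zero_add]
  have e4 : y ^ 2 + y ^ 2 + y * (y * 0 + x ^ 2 * y * 1) = x ^ 2 * y ^ 2 := by
    linear_combination (y ^ 2) * h2
  rwa [e3, e4] at h5

/-- **The field argument**: the full transvection group of `a` lies in `H`. -/
theorem full_of_R [Finite F] (h2 : (2 : F) = 0) (hab1 : ⟪a, b₁⟫ = 0) (hab2 : ⟪a, b₂⟫ = 0)
    (hbb : ⟪b₁, b₂⟫ = 1) (hac : ⟪a, c⟫ = 1) (hbc : ⟪b₁, c⟫ = 1)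
    (hTa : transv a 1 ∈ H) (hT1 : transv b₁ 1 ∈ H) (hT2 : transv b₂ 1 ∈ H)
    (hTc : transv c 1 ∈ H) {α : F} (hα0 : α ≠ 0) (hα : ∀ x : F, x ≠ 0 → ∃ k : ℕ, x = α ^ k)
    (hK : ∃ ν : F, ν ≠ 0 ∧ ν ≠ 1)
    (hu : transv (b₁ + α • a) 1 ∈ H) : a ∈ Full H := by
  have hba : ⟪b₁, a⟫ = 0 := eq_swap.1 hab1
  have hR : ∀ x y : F, Q a (x • b₁) (x ^ 2) ∈ H → Q a (y • b₁) (y ^ 2) ∈ H →
      Q a ((x ^ 2 * y) • b₁) ((x ^ 2 * y) ^ 2) ∈ H := fun x y hx hy =>
    R_norm h2 hab1 hab2 hbb hT1 hT2 (R_mul h2 hab1 hab2 hbb hac hbc hTa hT1 hT2 hTc hx hy)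
  have hRα : Q a (α • b₁) (α ^ 2) ∈ H := by
    rw [← transv_mul_transv h2 hab1]
    exact H.mul_mem hT1 hu
  have hodd : ∀ k : ℕ, Q a ((α ^ (2 * k + 1)) • b₁) ((α ^ (2 * k + 1)) ^ 2) ∈ H := by
    intro k
    induction k with
    | zero => rw [mul_zero, zero_add, pow_one]; exact hRα
    | succ k ih =>
      have := hR _ _ hRα ih
      rwa [← pow_add, show 2 + (2 * k + 1) = 2 * (k + 1) + 1 by ring] at this
  -- the order of `α` is odd
  obtain ⟨m, hm⟩ : ∃ m : ℕ, α ^ (2 * m + 1) = 1 := by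
    have hft := Fintype.ofFinite F
    have hcard : ¬ Even (Fintype.card F - 1) := by
      have hch : CharP F 2 := CharTwo.of_one_ne_zero_of_two_eq_zero one_ne_zero h2
      obtain ⟨m, hm⟩ := FiniteField.card F 2
      have hpos : 0 < (m : ℕ) := m.2
      rw [hm.2]
      intro h
      have h3 : 2 ∣ 2 ^ (m : ℕ) := dvd_pow_self 2 (by omega)
      have h4 : 1 ≤ 2 ^ (m : ℕ) := Nat.one_le_two_pow
      obtain ⟨r, hr⟩ := h
      omega
    rw [Nat.not_even_iff_odd] at hcard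
    obtain ⟨m, hm⟩ := hcard
    refine ⟨m, ?_⟩
    rw [← hm]
    exact FiniteField.pow_card_sub_one_eq_one α hα0
  have hall : ∀ x : F, x ≠ 0 → Q a (x • b₁) (x ^ 2) ∈ H := by
    intro x hx
    obtain ⟨k, rfl⟩ := hα x hx
    rcases Nat.even_or_odd k with hk | hk
    · obtain ⟨r, rfl⟩ := hk
      have := hodd (r + m)
      rwa [show 2 * (r + m) + 1 = (r + r) + (2 * m + 1) by ring, pow_add, hm, mul_one] at this
    · obtain ⟨r, rfl⟩ := hk
      exact hodd r
  obtain ⟨ν, hν0, hν1⟩ := hK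
  have ha0 : a ≠ 0 := by
    rintro rfl
    rw [sympForm_zero_left] at hac
    exact zero_ne_one hac
  refine ⟨ha0, fun t => ?_⟩
  by_cases ht : t = 0
  · rw [ht, transv_zero]; exact H.one_mem
  -- find `y` with `t = y² ν² (1 + ν²)`
  have hD : ν ^ 2 * (1 + ν ^ 2) ≠ 0 := by
    refine mul_ne_zero (pow_ne_zero _ hν0) ?_
    intro h
    have h3 : (1 + ν) ^ 2 = 0 := by linear_combination h + ν * h2
    have h4 : 1 + ν = 0 := pow_eq_zero_iff (two_ne_zero) |>.1 h3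
    exact hν1 (by linear_combination h4 - h2)
  obtain ⟨y, hy⟩ : ∃ y : F, y ^ 2 = t / (ν ^ 2 * (1 + ν ^ 2)) := by
    have hch : CharP F 2 := CharTwo.of_one_ne_zero_of_two_eq_zero one_ne_zero h2
    have hf2 : Fact (Nat.Prime 2) := ⟨Nat.prime_two⟩
    obtain ⟨y, hy⟩ := (bijective_frobenius F 2).2 (t / (ν ^ 2 * (1 + ν ^ 2)))
    exact ⟨y, hy⟩
  have hy0 : y ≠ 0 := by
    rintro rfl
    rw [zero_pow two_ne_zero] at hy
    exact (div_ne_zero ht hD) hy.symm
  have h3 := R_mul h2 hab1 hab2 hbb hac hbc hTa hT1 hT2 hTc (hall ν hν0) (hall y hy0)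
  have h4 := hall (ν ^ 2 * y) (mul_ne_zero (pow_ne_zero _ hν0) hy0)
  have h5 := H.mul_mem h3 h4
  have e0 : ⟪a, (ν ^ 2 * y) • b₁⟫ = 0 := by rw [sympForm_smul_right, hab1, mul_zero]
  rw [Q_mul h2 e0 e0, add_self2 h2, sympForm_self, Q_zero, add_zero] at h5
  have e5 : ν ^ 2 * y ^ 2 + (ν ^ 2 * y) ^ 2 = t := by
    have h6 : (ν ^ 2 * (1 + ν ^ 2)) * y ^ 2 = t := by
      rw [hy, mul_div_assoc', mul_div_cancel_left₀ _ hD]
    linear_combination h6
  rwa [e5] at h5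

end Rarg

end Cfsg.Agent.H107.SpEven
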