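import Mathlib
import Cfsg.Agent.ClassicalGeometry.SympBasic
import Cfsg.Agent.H107.SpEven

/-!
Three conjugate regular unipotents generate `Sp_{2n}(q)`, even characteristic: the theorem.
-/

set_option autoImplicit false

namespace Cfsg.Agent.H107.SpEvenMain

open Cfsg.Agent.ClassicalGeometry.SympBasic
open Cfsg.Agent.H107.SpGraph
open Cfsg.Agent.H107.SpTr
open Cfsg.Agent.H107.SpReg
open Cfsg.Agent.H107.SpCyc
open Cfsg.Agent.H107.SpConj
open Cfsg.Agent.H107.SpOdd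
open Cfsg.Agent.H107.SpEven
open Cfsg.Agent.H107.Comp

variable {n : ℕ} {F : Type*} [Field F]

local notation "⟪" u ", " v "⟫" => Cfsg.sympForm n F u v

theorem zv_add (g : Matrix.symplecticGroup (Fin n) F) (x y : Fin n ⊕ Fin n → F) (k : ℕ) :
    zv g (x + y) k = zv g x k + zv g y k := Matrix.mulVec_add _ _ _

theorem zv_zv (g : Matrix.symplecticGroup (Fin n) F) (y : Fin n ⊕ Fin n → F) (j k : ℕ) :
    zv g (zv g y j) k = zv g y (k + j) := by
  rw [zv, zv, zv, Matrix.mulVec_mulVec, pow_add]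

theorem zv_zero' (g : Matrix.symplecticGroup (Fin n) F) (k : ℕ) :
    zv g 0 k = 0 := Matrix.mulVec_zero _

theorem zv_ne_zero (hn : 2 ≤ n) {k : ℕ} (hk : k < 2 * n) : zv (w₀ n F) (a₀ n F) k ≠ 0 := by
  intro h
  apply zv_ne (F := F) hn
  have h1 := zv_zv (w₀ n F) (a₀ n F) k (2 * n - 1 - k)
  rw [show 2 * n - 1 - k + k = 2 * n - 1 by omega] at h1
  rw [← h1, h, zv_zero']

theorem zv_eq_zero {k : ℕ} (hk : 2 * n ≤ k) : zv (w₀ n F) (a₀ n F) k = 0 := by
  have h1 := zv_zv (w₀ n F) (a₀ n F) (2 * n) (k - 2 * n)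
  rw [zv_top, zv_zero', show k - 2 * n + 2 * n = k by omega] at h1
  exact h1.symm

theorem orth_two {g : Matrix.symplecticGroup (Fin n) F} {a b : Fin n ⊕ Fin n → F}
    (ha : act g a = a) (hb : act g b = b + a) (x : Fin n ⊕ Fin n → F) :
    ⟪b, act g (act g x - x) - (act g x - x)⟫ = 0 := by
  have h1 : ∀ y, ⟪b, act g y - y⟫ = -⟪a, y⟫ := by
    intro y
    have h2 : act g (b - a) = b := by rw [act_sub, ha, hb, add_sub_cancel_right]
    rw [sympForm_sub_right]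
    nth_rewrite 1 [← h2]
    rw [form_act, sympForm_sub_left]
    ring
  rw [h1, orth_of_fix ha, neg_zero]

theorem zmod_two (x : ZMod 2) : x = 0 ∨ x = 1 := by
  fin_cases x
  · left; rfl
  · right; rfl

/-- the configuration inside the group over the prime field -/
theorem exists_config (f : ZMod 2 →+* F) (hn : 2 ≤ n)
    {H : Subgroup (Matrix.symplecticGroup (Fin n) F)} (hw : mapSp f (w₀ n (ZMod 2)) ∈ H)
    (h : transv (io f (a₀ n (ZMod 2))) 1 ∈ H) :
    ∃ b₁ b₂ c : Fin n ⊕ Fin n → ZMod 2,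
      b₁ ≠ 0 ∧ b₁ ≠ a₀ n (ZMod 2) ∧
      transv (io f b₁) 1 ∈ H ∧ transv (io f b₂) 1 ∈ H ∧ transv (io f c) 1 ∈ H ∧
      Cfsg.sympForm n (ZMod 2) (a₀ n (ZMod 2)) b₁ = 0 ∧
      Cfsg.sympForm n (ZMod 2) (a₀ n (ZMod 2)) b₂ = 0 ∧
      Cfsg.sympForm n (ZMod 2) b₁ b₂ = 1 ∧
      Cfsg.sympForm n (ZMod 2) (a₀ n (ZMod 2)) c = 1 ∧
      Cfsg.sympForm n (ZMod 2) b₁ c = 1 := by
  have hf2 : Fact (Nat.Prime 2) := ⟨Nat.prime_two⟩
  have h2 : (2 : ZMod 2) = 0 := rfl
  set w := w₀ n (ZMod 2) with hw'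
  set a := a₀ n (ZMod 2) with ha'
  set D := Full (H.comap (mapSp f)) with hD'
  have hD : Clo D := full_clo _
  have haD : a ∈ D := mem_full_comap f (a₀_ne (by omega)) h
  have hwD : ∀ v ∈ D, act w v ∈ D := fun v hv => full_act (Subgroup.mem_comap.2 hw) hv
  have haw : Cfsg.sympForm n (ZMod 2) a (act w a) = 1 := form_w₀ hn
  have haw' : Cfsg.sympForm n (ZMod 2) a (act w a) ≠ 0 := by rw [haw]; exact one_ne_zero
  have hsp := nb_span hD hwD haD haw' (span_pow (by omega) Nw_pow_eq_zero (Nw_pow_e_ne_zero hn))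
  have hN : Clo (Nb D a) := hD.nb_clo a
  have hC : Conn (Nb D a) := hD.nb_conn haD
  have hnd : NonDeg (Nb D a) := nonDeg_of_span (D := Nb D a) le_rfl hsp
  have hmem : ∀ k : ℕ, act (w ^ k) a ∈ Nb D a := fun k => pow_act_mem hD hwD haD haw' k
  have ha0 : a ∈ Nb D a := by have := hmem 0; rwa [pow_zero, act_one] at this
  have ha1 : act w a ∈ Nb D a := by have := hmem 1; rwa [pow_one] at this
  have ha2 : act w (act w a) ∈ Nb D a := by have := hmem 2; rwa [pow_two, act_mul] at this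
  have e1 : act w a = a + zv w a 1 := by
    have := act_zv w a 0
    rwa [zv_zero] at this
  have e2 : act w (act w a) = a + zv w a 2 := by
    rw [e1, act_add, e1, act_zv]
    rw [show a + zv w a 1 + (zv w a 1 + zv w a (1 + 1)) = a + zv w a (1 + 1) +
      (zv w a 1 + zv w a 1) by abel, add_self2 h2, add_zero]
  obtain ⟨b₁, hb1, hab1, hne⟩ : ∃ b₁ ∈ Nb D a, Cfsg.sympForm n (ZMod 2) a b₁ = 0 ∧ a ≠ b₁ := by
    rcases zmod_two (Cfsg.sympForm n (ZMod 2) a (act w (act w a))) with h0 | h1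
    · refine ⟨_, ha2, h0, ?_⟩
      rw [e2]
      intro h3
      exact zv_ne_zero (F := ZMod 2) hn (k := 2) (by omega) (left_eq_add.1 h3)
    · refine ⟨act w a + act w (act w a), hN.add _ ha1 _ ha2 ?_, ?_, ?_⟩
      · rw [form_act]; exact haw'
      · rw [sympForm_add_right, haw, h1]; rfl
      · intro h3
        have h4 : act w a + act w (act w a) = zv w a 1 + zv w a 2 := by
          rw [e2, e1]
          rw [show a + zv w a 1 + (a + zv w a 2) = zv w a 1 + zv w a 2 + (a + a) by abel,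
            add_self2 h2, add_zero]
        rw [h4] at h3
        have h5 := congrArg (fun x => zv w x (2 * n - 1)) h3
        simp only [zv_add, zv_zv] at h5
        rw [zv_eq_zero (k := 2 * n - 1 + 1) (by omega), zv_eq_zero (k := 2 * n - 1 + 2) (by omega),
          add_zero] at h5
        exact zv_ne (F := ZMod 2) hn h5
  obtain ⟨b₂, hb2, hab2, hbb⟩ := hN.exists_sep zmod_two hC hnd ha0 hb1 hne hab1
  obtain ⟨c, hc, hac, hbc⟩ := hC a ha0 b₁ hb1
  have hone : ∀ v ∈ Nb D a, transv (io f v) 1 ∈ H := by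
    intro v hv
    have h3 := hv.1.2 1
    rwa [Subgroup.mem_comap, mapSp_transv, map_one] at h3
  exact ⟨b₁, b₂, c, hb1.1.1, hne.symm, hone _ hb1, hone _ hb2, hone _ hc, hab1, hab2, hbb,
    (zmod_two _).resolve_left hac, (zmod_two _).resolve_left hbc⟩

theorem exists_kappa (h2 : (2 : F) = 0) {γ : F} (h : γ = 0 ∨ ∃ ν : F, ν ≠ 0 ∧ ν ≠ 1) :
    ∃ k : F, k + γ * k ^ 2 ≠ 0 := by
  by_cases hγ : γ = 0
  · exact ⟨1, by rw [hγ]; simp⟩
  · obtain ⟨ν, hν0, hν1⟩ := h.resolve_left hγ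
    refine ⟨ν / γ, ?_⟩
    have h3 : ν / γ + γ * (ν / γ) ^ 2 = (ν / γ) * (1 + ν) := by field_simp
    rw [h3]
    refine mul_ne_zero (div_ne_zero hν0 hγ) ?_
    intro h4
    exact hν1 (by linear_combination h4 - h2)

theorem exists_sqrt [Finite F] (h2 : (2 : F) = 0) (x : F) : ∃ y : F, y ^ 2 = x := by
  have hch : CharP F 2 := CharTwo.of_one_ne_zero_of_two_eq_zero one_ne_zero h2
  have hf2 : Fact (Nat.Prime 2) := ⟨Nat.prime_two⟩
  obtain ⟨y, hy⟩ := (bijective_frobenius F 2).2 x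
  exact ⟨y, hy⟩

/-- the second conjugate -/
theorem exists_U [Finite F] (f : ZMod 2 →+* F) (hn : 2 ≤ n)
    (hcase : 3 ≤ n ∨ ∃ ν : F, ν ≠ 0 ∧ ν ≠ 1) {b₁ : Fin n ⊕ Fin n → ZMod 2}
    (hb0 : b₁ ≠ 0) (hba : b₁ ≠ a₀ n (ZMod 2))
    (hab : Cfsg.sympForm n (ZMod 2) (a₀ n (ZMod 2)) b₁ = 0) {t : F} (ht : t ≠ 0) :
    ∃ g h : Matrix.symplecticGroup (Fin n) F,
      act (g * mapSp f (w₀ n (ZMod 2)) * g⁻¹) (io f b₁) = io f b₁ + t • io f (a₀ n (ZMod 2)) ∧
      h * mapSp f (w₀ n (ZMod 2)) * h⁻¹ =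
        transv (io f (a₀ n (ZMod 2))) 1 * (g * mapSp f (w₀ n (ZMod 2)) * g⁻¹) := by
  have h2' : (2 : ZMod 2) = 0 := rfl
  have h2 : (2 : F) = 0 := by rw [← map_ofNat f 2, h2', map_zero]
  set W := mapSp f (w₀ n (ZMod 2)) with hW
  set a := io f (a₀ n (ZMod 2)) with ha
  set z1 := zv (w₀ n (ZMod 2)) (a₀ n (ZMod 2)) (2 * n - 1) with hz1
  set z2 := zv (w₀ n (ZMod 2)) (a₀ n (ZMod 2)) (2 * n - 2) with hz2
  set z3 := zv (w₀ n (ZMod 2)) (a₀ n (ZMod 2)) (2 * n - 3) with hz3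
  have hfix : act (w₀ n (ZMod 2)) z1 = z1 := by
    rw [hz1, act_zv, show 2 * n - 1 + 1 = 2 * n by omega, zv_top, add_zero]
  have hnext : act (w₀ n (ZMod 2)) z2 = z2 + z1 := by
    rw [hz2, act_zv, show 2 * n - 2 + 1 = 2 * n - 1 by omega]
  have hnext2 : act (w₀ n (ZMod 2)) z3 = z3 + z2 := by
    rw [hz3, act_zv, show 2 * n - 3 + 1 = 2 * n - 2 by omega]
  have e2 : z2 = act (w₀ n (ZMod 2)) z3 - z3 := by rw [hnext2, add_sub_cancel_left]
  have e3 : z3 = act (w₀ n (ZMod 2)) (zv (w₀ n (ZMod 2)) (a₀ n (ZMod 2)) (2 * n - 4)) -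
      zv (w₀ n (ZMod 2)) (a₀ n (ZMod 2)) (2 * n - 4) := by
    rw [← zv_succ, show 2 * n - 4 + 1 = 2 * n - 3 by omega]
  have h12 : Cfsg.sympForm n (ZMod 2) z1 z2 = 0 := by
    rw [e2]; exact orth_of_fix hfix _
  have h13 : Cfsg.sympForm n (ZMod 2) z1 z3 = 0 := by
    rw [e3]; exact orth_of_fix hfix _
  have h23 : 3 ≤ n → Cfsg.sympForm n (ZMod 2) z2 z3 = 0 := by
    intro hn3
    have e4 : zv (w₀ n (ZMod 2)) (a₀ n (ZMod 2)) (2 * n - 4) =
      act (w₀ n (ZMod 2)) (zv (w₀ n (ZMod 2)) (a₀ n (ZMod 2)) (2 * n - 5)) -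
        zv (w₀ n (ZMod 2)) (a₀ n (ZMod 2)) (2 * n - 5) := by
      rw [← zv_succ, show 2 * n - 5 + 1 = 2 * n - 4 by omega]
    rw [e3, e4]
    exact orth_two hfix hnext _
  obtain ⟨k, hk⟩ := exists_kappa h2 (γ := ⟪io f z2, io f z3⟫) (by
    rcases hcase with h | h
    · left; rw [form_io, h23 h, map_zero]
    · exact Or.inr h)
  obtain ⟨h₀, hh₀⟩ := exists_conj_two h2 (g := W) (a := io f z1) (b := io f z2) (c := io f z3)
    (by rw [hW, act_io, hfix]) (by rw [hW, act_io, hnext, io_add])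
    (by rw [hW, act_io, hnext2, io_add]) (by rw [form_io, h12, map_zero])
    (by rw [form_io, h13, map_zero]) k
  set s := k + ⟪io f z2, io f z3⟫ * k ^ 2 with hs
  obtain ⟨ρ, hρ⟩ := exists_sqrt h2 s
  have hρ0 : ρ ≠ 0 := by
    rintro rfl
    rw [zero_pow two_ne_zero] at hρ
    exact hk hρ.symm
  have hz1ne : io f z1 ≠ 0 := io_ne_zero f (zv_ne hn)
  have hane : a ≠ 0 := io_ne_zero f (a₀_ne (by omega))
  have hind1 : ∀ c : F, io f z2 ≠ c • io f z1 := by
    intro c hc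
    have h3 := congrArg (act W) hc
    rw [act_smul, hW, act_io, act_io, hnext, hfix, io_add, hc] at h3
    exact hz1ne (left_eq_add.1 h3.symm)
  have hμ0 : t * ρ ≠ 0 := mul_ne_zero ht hρ0
  have hbne : io f b₁ ≠ 0 := io_ne_zero f hb0
  have hind2 : ∀ c : F, (t * ρ)⁻¹ • io f b₁ ≠ c • (ρ⁻¹ • a) := by
    intro c hc
    have h3 : io f b₁ = (t * ρ * c * ρ⁻¹) • a := by
      rw [mul_assoc, mul_smul, mul_smul c, ← hc, smul_inv_smul₀ hμ0]
    -- read a coordinate where `b₁` is not zero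
    obtain ⟨i, hi⟩ : ∃ i, b₁ i ≠ 0 := by
      by_contra hcon
      push Not at hcon
      exact hb0 (funext hcon)
    have hi1 : b₁ i = 1 := (zmod_two _).resolve_left hi
    have h4 := congrFun h3 i
    have h5 : f (b₁ i) = (t * ρ * c * ρ⁻¹) * f (a₀ n (ZMod 2) i) := h4
    rcases zmod_two (a₀ n (ZMod 2) i) with h6 | h6
    · rw [h6, hi1, map_one, map_zero, mul_zero] at h5
      exact one_ne_zero h5
    · rw [h6, hi1, map_one, mul_one] at h5
      rw [← h5, one_smul] at h3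
      apply hba
      funext j
      have h7 : f (b₁ j) = f (a₀ n (ZMod 2) j) := congrFun h3 j
      exact f.injective h7
  obtain ⟨g, hg1, hg2⟩ := exists_act_pair hz1ne (by rw [form_io, h12, map_zero]) hind1
    (a' := ρ⁻¹ • a) (b' := (t * ρ)⁻¹ • io f b₁) (smul_ne_zero (inv_ne_zero hρ0) hane)
    (by rw [sympForm_smul_left, sympForm_smul_right, ha, form_io, hab, map_zero]; ring) hind2
  refine ⟨g, g * h₀, ?_, ?_⟩
  · have h3 : act g⁻¹ (io f b₁) = (t * ρ) • io f z2 := by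
      apply act_inj g
      rw [act_act_inv, act_smul, hg2, smul_inv_smul₀ hμ0]
    rw [act_mul, act_mul, h3, act_smul, hW, act_io, hnext, io_add, act_smul, act_add, hg1, hg2,
      smul_add, smul_inv_smul₀ hμ0, smul_smul, mul_assoc, mul_inv_cancel₀ hρ0, mul_one]
  · have h3 : g * h₀ * W * (g * h₀)⁻¹ = g * (h₀ * W * h₀⁻¹) * g⁻¹ := by group
    rw [h3, hh₀]
    have h4 : g * (transv (io f z1) s * W) * g⁻¹ =
      (g * transv (io f z1) s * g⁻¹) * (g * W * g⁻¹) := by group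
    rw [h4, conj_transv, hg1, transv_smul, ← hρ, ← mul_pow, inv_mul_cancel₀ hρ0, one_pow]

/-- **Main theorem, even characteristic.** -/
theorem main_even [Finite F] (f : ZMod 2 →+* F) (hn : 2 ≤ n)
    (hcase : 3 ≤ n ∨ ∃ ν : F, ν ≠ 0 ∧ ν ≠ 1) :
    ∃ g h : Matrix.symplecticGroup (Fin n) F,
      Subgroup.closure ({mapSp f (w₀ n (ZMod 2)), g * mapSp f (w₀ n (ZMod 2)) * g⁻¹,
        h * mapSp f (w₀ n (ZMod 2)) * h⁻¹} : Set (Matrix.symplecticGroup (Fin n) F)) = ⊤ := by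
  have hf2 : Fact (Nat.Prime 2) := ⟨Nat.prime_two⟩
  have h2' : (2 : ZMod 2) = 0 := rfl
  have h2 : (2 : F) = 0 := by rw [← map_ofNat f 2, h2', map_zero]
  obtain ⟨α, hα0, hα⟩ := Prime.exists_gen F
  set W := mapSp f (w₀ n (ZMod 2)) with hW
  set a := io f (a₀ n (ZMod 2)) with ha
  obtain ⟨b₁, b₂, c, hb0, hba, hT1, hT2, hTc, hab1, hab2, hbb, hac, hbc⟩ :=
    exists_config f hn (H := Subgroup.closure {W, transv a 1})
      (Subgroup.subset_closure (Or.inl rfl)) (Subgroup.subset_closure (Or.inr rfl))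
  obtain ⟨g, h, hU, hh⟩ := exists_U f hn hcase hb0 hba hab1 hα0
  rw [← hW, ← ha] at hU hh
  refine ⟨g, h, ?_⟩
  set U := g * W * g⁻¹ with hU'
  rw [hh]
  set H := Subgroup.closure ({W, U, transv a 1 * U} :
    Set (Matrix.symplecticGroup (Fin n) F)) with hH
  have hWH : W ∈ H := Subgroup.subset_closure (by simp)
  have hUH : U ∈ H := Subgroup.subset_closure (by simp)
  have hX : transv a 1 * U ∈ H := Subgroup.subset_closure (by simp)
  have hTa : transv a 1 ∈ H := (Subgroup.mul_mem_cancel_right _ hUH).1 hX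
  have hle : Subgroup.closure {W, transv a 1} ≤ H := by
    rw [Subgroup.closure_le]
    rintro x (rfl | rfl)
    · exact hWH
    · exact hTa
  have fab1 : ⟪a, io f b₁⟫ = 0 := by rw [ha, form_io, hab1, map_zero]
  have fab2 : ⟪a, io f b₂⟫ = 0 := by rw [ha, form_io, hab2, map_zero]
  have fbb : ⟪io f b₁, io f b₂⟫ = 1 := by rw [form_io, hbb, map_one]
  have fac : ⟪a, io f c⟫ = 1 := by rw [ha, form_io, hac, map_one]
  have fbc : ⟪io f b₁, io f c⟫ = 1 := by rw [form_io, hbc, map_one]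
  have hu : transv (io f b₁ + α • a) 1 ∈ H := by
    rw [← hU]
    exact mem_transv_act hUH (hle hT1)
  by_cases hK : ∃ ν : F, ν ≠ 0 ∧ ν ≠ 1
  · have hfull := full_of_R h2 fab1 fab2 fbb fac fbc hTa (hle hT1) (hle hT2) (hle hTc) hα0 hα hK hu
    exact top_of_full hK hWH hfull (form_map f hn) (span_map f hn)
  · have hF : ∀ x : F, x = 0 ∨ x = 1 := by
      intro x
      by_contra hcon
      push Not at hcon
      exact hK ⟨x, hcon⟩
    have hα1 : α = 1 := (hF α).resolve_left hα0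
    rw [hα1, one_smul, add_comm] at hu
    have hfull : ∀ v : Fin n ⊕ Fin n → F, v ≠ 0 → transv v 1 ∈ H → v ∈ Full H := by
      intro v hv hv1
      refine ⟨hv, fun x => ?_⟩
      rcases hF x with rfl | rfl
      · rw [transv_zero]; exact H.one_mem
      · exact hv1
    have hane : a ≠ 0 := io_ne_zero f (a₀_ne (by omega))
    have hb1ne : io f b₁ ≠ 0 := io_ne_zero f hb0
    have hcne : io f c ≠ 0 := by
      intro h
      rw [h, sympForm_zero_right] at fac
      exact zero_ne_one fac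
    have hne : a ≠ io f b₁ := by
      intro h
      apply hba
      funext j
      have h7 : f (a₀ n (ZMod 2) j) = f (b₁ j) := congrFun h j
      exact (f.injective h7).symm
    have hsumne : a + io f b₁ ≠ 0 := by
      intro h
      apply hne
      rw [eq_neg_of_add_eq_zero_left h, neg_eq_iff_add_eq_zero, add_self2 h2]
    refine top_of_full_two hF hWH (hfull a hane hTa) (form_map f hn) (span_map f hn)
      (b := io f b₁) ⟨hfull _ hb1ne (hle hT1), io f c, hfull _ hcne (hle hTc), ?_, ?_⟩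
      (hfull _ hsumne hu) hne fab1
    · rw [fac]; exact one_ne_zero
    · rw [fbc]; exact one_ne_zero

end Cfsg.Agent.H107.SpEvenMain
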